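import Mathlib
import Cfsg.Agent.OddOrderCharacters.WeakTypes
import Cfsg.Agent.OddOrderCharacters.PF13.TypeData
import Cfsg.Agent.OddOrderCharacters.PF13.TypePStruct
import Cfsg.Prelude.Def_OddOrderChar

/-!
# Peterfalvi (13.2), modulo its inputs

* `typeA0'_TI`: for `S` of type P the Dade hypothesis for `A₀(S)`, the tame embedding statement and
  "type I maximal subgroups are Frobenius groups" give that `A₀(S)` is a TI-subset.
* `facts`: the conclusions of (13.2), given that no maximal subgroup is of type V, and the structure of the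
  maximal subgroups of types III and IV.
-/

set_option autoImplicit false

namespace Cfsg.Agent.OddOrderCharacters.PF13.Facts

open Cfsg Cfsg.Agent.OddOrderCharacters.PFDefs Cfsg.Agent.OddOrderCharacters.TypeSetsBasic
open Cfsg.Agent.OddOrderCharacters.TypeExclusive Cfsg.Agent.OddOrderCharacters.WeakTypes
open Cfsg.Agent.OddOrderCharacters.PF13.TypePStruct Cfsg.Agent.OddOrderCharacters.PF13.TypeData
open scoped Pointwise

universe u

variable {G : Type u} [Group G]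

/-- A subgroup of type P is not a Frobenius group with kernel `M_F`. -/
theorem not_frobenius {M W₁ U W₂ : Subgroup G} (hP : IsTypePWith M W₁ U W₂) (E : Subgroup ↥M)
    (hE : IsFrobeniusComplement E)
    (hk : frobeniusKernel E = ((fittingHall ↥M : Subgroup ↥M) : Set ↥M)) : False := by
  obtain ⟨w, hw, hw1⟩ := W₁_exists_ne_one hP
  obtain ⟨⟨v, hv⟩, hv1⟩ := Subgroup.ne_bot_iff_exists_ne_one.1 (W₂_ne hP)
  have hv1' : v ≠ 1 := fun h => hv1 (Subtype.ext h)
  have hwM : w ∈ M := TypeSetsBasic.W₁_le hP hw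
  have hvH : v ∈ fittingHallOf M := W₂_le_kernel hP hv
  have hvM : v ∈ M := fittingHallOf_le M hvH
  have hwH : w ∉ fittingHallOf M := by
    intro h
    have h1 : w ∈ fittingHallOf M ⊓ W₁ := ⟨h, hw⟩
    rw [kernel_inf_W₁ hP] at h1
    exact hw1 (Subgroup.mem_bot.1 h1)
  have hmem : ∀ (x : G) (hx : x ∈ M), (⟨x, hx⟩ : ↥M) ∈ fittingHall ↥M ↔ x ∈ fittingHallOf M := by
    intro x hx
    constructor
    · intro h; exact ⟨_, h, rfl⟩
    · rintro ⟨y, hy, hyx⟩
      have : y = ⟨x, hx⟩ := Subtype.ext hyx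
      rwa [← this]
  -- `w` lies in a conjugate of `E`
  have h1 : (⟨w, hwM⟩ : ↥M) ∉ frobeniusKernel E := by
    rw [hk]
    exact fun h => hwH ((hmem w hwM).1 h)
  have h2 : ∃ g : ↥M, (⟨w, hwM⟩ : ↥M) ∈ MulAut.conj g • E := by
    by_contra h
    push Not at h
    exact h1 (Or.inr h)
  obtain ⟨g, hg⟩ := h2
  have h3 : (⟨v, hvM⟩ : ↥M) ∈ frobeniusKernel E := by
    rw [hk]
    exact (hmem v hvM).2 hvH
  -- `w' = g⁻¹ w g ∈ E`, `v' = g⁻¹ v g`
  set w' : ↥M := g⁻¹ * ⟨w, hwM⟩ * g with hw'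
  set v' : ↥M := g⁻¹ * ⟨v, hvM⟩ * g with hv'
  have hw'E : w' ∈ E := by
    rw [Subgroup.mem_pointwise_smul_iff_inv_smul_mem] at hg
    have : (MulAut.conj g)⁻¹ • (⟨w, hwM⟩ : ↥M) = w' := by
      rw [hw', ← map_inv]
      show g⁻¹ * _ * g⁻¹⁻¹ = _
      rw [inv_inv]
    rwa [this] at hg
  have hcomm : v' * w' = w' * v' := by
    have h4 : (⟨v, hvM⟩ : ↥M) * ⟨w, hwM⟩ = ⟨w, hwM⟩ * ⟨v, hvM⟩ :=
      Subtype.ext (W₂_commute hP hw hv).symm
    calc v' * w' = g⁻¹ * (⟨v, hvM⟩ * ⟨w, hwM⟩) * g := by rw [hw', hv']; group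
      _ = g⁻¹ * (⟨w, hwM⟩ * ⟨v, hvM⟩) * g := by rw [h4]
      _ = w' * v' := by rw [hw', hv']; group
  have hw'1 : w' ≠ 1 := by
    intro h
    apply hw1
    have h5 : (⟨w, hwM⟩ : ↥M) = g * w' * g⁻¹ := by rw [hw']; group
    rw [h] at h5
    have h6 : (⟨w, hwM⟩ : ↥M) = 1 := by rw [h5]; group
    exact congrArg Subtype.val h6
  by_cases hv'E : v' ∈ E
  · -- then `v` lies in a conjugate of `E`, against `v ∈` kernel
    rcases h3 with h3 | h3
    · exact hv1' (congrArg Subtype.val h3)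
    · apply h3 g
      rw [Subgroup.mem_pointwise_smul_iff_inv_smul_mem]
      have : (MulAut.conj g)⁻¹ • (⟨v, hvM⟩ : ↥M) = v' := by
        rw [hv', ← map_inv]
        show g⁻¹ * _ * g⁻¹⁻¹ = _
        rw [inv_inv]
      rwa [this]
  · have h7 := hE.2.2 v' hv'E
    have h8 : w' ∈ E ⊓ (MulAut.conj v' • E) := by
      refine ⟨hw'E, ?_⟩
      show w' ∈ MulAut.conj v' • E
      rw [Subgroup.mem_pointwise_smul_iff_inv_smul_mem]
      have : (MulAut.conj v')⁻¹ • w' = w' := by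
        rw [← map_inv]
        show v'⁻¹ * w' * v'⁻¹⁻¹ = _
        rw [inv_inv, mul_assoc, ← hcomm]
        group
      rwa [this]
    rw [h7] at h8
    exact hw'1 (Subgroup.mem_bot.1 h8)

/-- For `S` of type P: the tame embedding statement and the Frobenius property of type I maximal subgroups
give `C_G(x) ≤ S` for all `x ∈ A₀(S)`. -/
theorem centralizer_le {S W₁ U W₂ : Subgroup G} [Finite G] (hP : IsTypePWith S W₁ U W₂)
    (htame : ∀ x ∈ typeA0' S, ¬ Subgroup.centralizer ({x} : Set G) ≤ S → ∃ L : Subgroup G, IsCoatom L ∧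
      x ∈ typeA' L ∧ x ∉ typeA1 L ∧ (IsOfTypeI' L ∨ IsOfTypeII L) ∧
      (IsOfTypeII L → ∃ E : Subgroup ↥S, IsFrobeniusComplement E ∧
        frobeniusKernel E = ((fittingHall ↥S : Subgroup ↥S) : Set ↥S)))
    (hfrob : ∀ L : Subgroup G, IsCoatom L → IsOfTypeI' L → ∀ x ∈ fittingHallOf L, x ≠ 1 →
      L ⊓ Subgroup.centralizer ({x} : Set G) ≤ fittingHallOf L) :
    ∀ x ∈ typeA0' S, Subgroup.centralizer ({x} : Set G) ≤ S := by
  intro x hx
  by_contra hxS
  obtain ⟨L, hL, hxL, hxL1, hty, hII⟩ := htame x hx hxS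
  rcases hty with hI | hty
  · have hnP := not_isOfTypeP_of_isOfTypeI' hI
    rw [mem_typeA'_of_not_P hnP] at hxL
    obtain ⟨hxL2, hx1, y, hy, hy1, hxy⟩ := hxL
    have h1 := hfrob L hL hI y hy hy1
      ⟨hxL2, Cfsg.Agent.OddOrderCharacters.PF13.TypePStruct.mem_centralizer_singleton.2 hxy.symm⟩
    apply hxL1
    rw [mem_typeA1, typeCore_of_I' hI]
    exact ⟨h1, hx1⟩
  · obtain ⟨E, hE, hk⟩ := hII hty
    exact not_frobenius hP E hE hk

/-- The Dade hypothesis with `C_G(x) ≤ S` for all `x ∈ A` gives that `A` is a TI-subset. -/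
theorem isTISubset_of_dade {A : Set G} {S : Subgroup G} {H : G → Subgroup G}
    (hN : Subgroup.normalizer A = S) (hD : DadeHypothesis A S H)
    (hC : ∀ x ∈ A, Subgroup.centralizer ({x} : Set G) ≤ S) : IsTISubset A := by
  intro g hg x hx hgx
  exfalso
  apply hg
  rw [hN]
  obtain ⟨y, hy, hyx⟩ := hD.fusion x hx g hgx
  have h1 : y⁻¹ * g ∈ Subgroup.centralizer ({x} : Set G) := by
    rw [Cfsg.Agent.OddOrderCharacters.PF13.TypePStruct.mem_centralizer_singleton]
    have h2 : y⁻¹ * (y * x * y⁻¹) * g = y⁻¹ * (g * x * g⁻¹) * g := by rw [hyx]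
    calc x * (y⁻¹ * g) = y⁻¹ * (y * x * y⁻¹) * g := by group
      _ = y⁻¹ * (g * x * g⁻¹) * g := h2
      _ = y⁻¹ * g * x := by group
  have h3 := hC x hx h1
  have h4 : g = y * (y⁻¹ * g) := by group
  rw [h4]
  exact S.mul_mem hy h3

theorem typeA0'_TI {S W₁ U W₂ : Subgroup G} [Finite G] (hP : IsTypePWith S W₁ U W₂)
    (hN : Subgroup.normalizer (typeA0' S) = S)
    (hD : DadeHypothesis (typeA0' S) S (supportR S))
    (htame : ∀ x ∈ typeA0' S, ¬ Subgroup.centralizer ({x} : Set G) ≤ S → ∃ L : Subgroup G, IsCoatom L ∧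
      x ∈ typeA' L ∧ x ∉ typeA1 L ∧ (IsOfTypeI' L ∨ IsOfTypeII L) ∧
      (IsOfTypeII L → ∃ E : Subgroup ↥S, IsFrobeniusComplement E ∧
        frobeniusKernel E = ((fittingHall ↥S : Subgroup ↥S) : Set ↥S)))
    (hfrob : ∀ L : Subgroup G, IsCoatom L → IsOfTypeI' L → ∀ x ∈ fittingHallOf L, x ≠ 1 →
      L ⊓ Subgroup.centralizer ({x} : Set G) ≤ fittingHallOf L) : IsTISubset (typeA0' S) :=
  isTISubset_of_dade hN hD (centralizer_le hP htame hfrob)

/-- Peterfalvi (13.2), the structure of `S`, given that type V does not occur and the structure of the groups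
of types III and IV. -/
theorem structure_of_pair [Finite G] {S T W₁ W₂ U V : Subgroup G} (hS : IsCoatom S) (hT : IsCoatom T)
    (hSP : IsTypePWith S W₁ U W₂) (hTP : IsTypePWith T W₂ V W₁)
    (hS25 : IsOfTypeII S ∨ IsOfTypeIII S ∨ IsOfTypeIV S ∨ IsOfTypeV S)
    (hT25 : IsOfTypeII T ∨ IsOfTypeIII T ∨ IsOfTypeIV T ∨ IsOfTypeV T)
    (h5 : ∀ M : Subgroup G, IsCoatom M → ¬ IsOfTypeV M)
    (h34 : ∀ (M W₁ U W₂ : Subgroup G), IsCoatom M → IsTypePWith M W₁ U W₂ →
      (IsOfTypeIII M ∨ IsOfTypeIV M) → IsOfTypeIII M ∧ Nat.card W₂ < Nat.card W₁ ∧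
        IsElementaryAbelian (Nat.card W₂) (fittingHallOf M) ∧
        Nat.card (fittingHallOf M) = Nat.card W₂ ^ Nat.card W₁) :
    (IsOfTypeII S ∨ IsOfTypeIII S) ∧ (Nat.card W₁ < Nat.card W₂ → IsOfTypeII S) ∧
      (Nat.card W₁).Prime ∧ (Nat.card W₂).Prime ∧
      IsElementaryAbelian (Nat.card W₂) (fittingHallOf S) ∧
      Nat.card (fittingHallOf S) = Nat.card W₂ ^ Nat.card W₁ ∧
      U ≠ ⊥ ∧ IsMulCommutative U ∧ IsTISubset (fittingOf S : Set G) := by
  have hSII : IsOfTypeII S ∨ IsOfTypeIII S := by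
    rcases hS25 with h | h | h | h
    · exact Or.inl h
    · exact Or.inr h
    · exact Or.inr (h34 S W₁ U W₂ hS hSP (Or.inr h)).1
    · exact absurd h (h5 S hS)
  have hTII : IsOfTypeII T ∨ IsOfTypeIII T := by
    rcases hT25 with h | h | h | h
    · exact Or.inl h
    · exact Or.inr h
    · exact Or.inr (h34 T W₂ V W₁ hT hTP (Or.inr h)).1
    · exact absurd h (h5 T hT)
  have hp : (Nat.card W₂).Prime := by
    rcases hTII with h | h
    · exact (typeII_data hTP h).2.1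
    · exact (typeIII_data hTP h).2.1
  have hq : (Nat.card W₁).Prime := by
    rcases hSII with h | h
    · exact (typeII_data hSP h).2.1
    · exact (typeIII_data hSP h).2.1
  refine ⟨hSII, ?_, hq, hp, ?_⟩
  · intro hlt
    rcases hSII with h | h
    · exact h
    · exact absurd (h34 S W₁ U W₂ hS hSP (Or.inl h)).2.1 (not_lt.2 hlt.le)
  · rcases hSII with h | h
    · obtain ⟨hU, -, hTI, hab, -⟩ := typeII_data hSP h
      have hC := kernel_inf_centralizer_U hSP h
      exact ⟨isElementaryAbelian_kernel hSP hU hC hp, card_kernel hSP hU hC, hU, hab, hTI⟩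
    · obtain ⟨hU, -, hTI, hab, -⟩ := typeIII_data hSP h
      obtain ⟨-, -, h1, h2⟩ := h34 S W₁ U W₂ hS hSP (Or.inl h)
      exact ⟨h1, h2, hU, hab, hTI⟩

end Cfsg.Agent.OddOrderCharacters.PF13.Facts
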