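import Mathlib
import Cfsg.Agent.OddOrderCharacters.PF13.BridgeGroup
import Cfsg.Agent.OddOrderCharacters.IndRes
import Cfsg.Agent.OddOrderCharacters.Galois

/-!
# Peterfalvi (13.18), part 2: the linear characters `Θ_ω` of `M = P ⊔ W₁`
-/

set_option autoImplicit false

open Cfsg
open scoped ComplexConjugate
open Cfsg.Agent.Characters.Core
open Cfsg.Agent.OddOrderCharacters.PFDefs Cfsg.Agent.OddOrderCharacters.PF13Half
open Cfsg.Agent.OddOrderCharacters.CyclicTIUnique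
open Cfsg.Agent.OddOrderCharacters.PF13.BridgeDefs
open Cfsg.Agent.OddOrderCharacters.PF13.BridgeGroup

namespace Cfsg.Agent.OddOrderCharacters.PF13.BridgeTheta

universe u

variable {G : Type u} [Group G] {P S W W₁ W₂ : Subgroup G} {p q u : ℕ}

theorem cj_prod {P : Subgroup G} {t : G} (ht : t ∈ Subgroup.normalizer (P : Set G)) {ι : Type*}
    (s : Finset ι) (f : ι → (↥P →* ℂˣ)) : cj P t (∏ i ∈ s, f i) = ∏ i ∈ s, cj P t (f i) := by
  apply MonoidHom.ext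
  intro x
  rw [cj_apply ht, MonoidHom.finsetProd_apply, MonoidHom.finsetProd_apply]
  refine Finset.prod_congr rfl fun i _ => ?_
  rw [cj_apply ht]

theorem cj_zpow {P : Subgroup G} {t : G} (ht : t ∈ Subgroup.normalizer (P : Set G))
    (θ : ↥P →* ℂˣ) (n : ℤ) : cj P t (θ ^ n) = (cj P t θ) ^ n := by
  apply MonoidHom.ext
  intro x
  rw [cj_apply ht, MonoidHom.zpow_apply, MonoidHom.zpow_apply, cj_apply ht]

theorem comm_W [Finite G] (h : BridgeHyp P S W W₁ W₂ p q u) {x c : G} (hx : x ∈ W₁) (hc : c ∈ W₂) :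
    x * c = c * x :=
  PF3bBasic.comm h.cyc (PF3bBasic.le₁ h.cyc hx) (PF3bBasic.le₂ h.cyc hc)

/-- A `W₁`-invariant linear character of `P` extending the restriction of `ω` to `W₂`. -/
theorem exists_theta [Finite G] (h : BridgeHyp P S W W₁ W₂ p q u) (ω : ↥W →* ℂˣ) :
    ∃ θ : ↥P →* ℂˣ, (∀ x ∈ W₁, cj P x θ = θ) ∧
      ∀ (c : G) (hc : c ∈ W₂), θ ⟨c, h.W₂_le hc⟩ = ω ⟨c, PF3bBasic.le₂ h.cyc hc⟩ := by
  classical
  have hf : Fintype W₁ := Fintype.ofFinite _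
  have hP0 : 0 < Nat.card P := Nat.card_pos
  have hθ₀ : ∃ θ₀ : ↥P →* ℂˣ,
      ∀ (c : G) (hc : c ∈ W₂), θ₀ ⟨c, h.W₂_le hc⟩ = ω ⟨c, PF3bBasic.le₂ h.cyc hc⟩ := by
    let _ : CommGroup P := { (inferInstance : Group P) with
      mul_comm := fun a b => Subtype.ext (h.comm a a.2 b b.2) }
    let f : ↥(W₂.subgroupOf P) →* ℂˣ := ω.comp
      { toFun := fun x => ⟨((x : P) : G), PF3bBasic.le₂ h.cyc (Subgroup.mem_subgroupOf.mp x.2)⟩
        map_one' := rfl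
        map_mul' := fun _ _ => rfl }
    obtain ⟨θ₀, hθ₀⟩ := MonoidHom.domRestrict_surjective (M := ℂ) (W₂.subgroupOf P) f
    refine ⟨θ₀, fun c hc => ?_⟩
    have := DFunLike.congr_fun hθ₀ ⟨⟨c, h.W₂_le hc⟩, Subgroup.mem_subgroupOf.mpr hc⟩
    exact this
  obtain ⟨θ₀, hθ₀⟩ := hθ₀
  have hinv₁ : ∀ t ∈ W₁, cj P t (∏ x : W₁, cj P (x : G) θ₀) = ∏ x : W₁, cj P (x : G) θ₀ := by
    intro t ht
    rw [cj_prod (mem_norm h (h.W₁_le ht))]
    refine Fintype.prod_equiv (Equiv.mulRight (⟨t, ht⟩ : W₁)) _ _ fun x => ?_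
    rw [cj_mul (mem_norm h (h.W₁_le x.2)) (mem_norm h (h.W₁_le ht))]
    rfl
  have hval : ∀ (c : G) (hc : c ∈ W₂), (∏ x : W₁, cj P (x : G) θ₀) ⟨c, h.W₂_le hc⟩ =
      (ω ⟨c, PF3bBasic.le₂ h.cyc hc⟩) ^ q := by
    intro c hc
    rw [MonoidHom.finsetProd_apply]
    have h1 : ∀ x : W₁, cj P (x : G) θ₀ ⟨c, h.W₂_le hc⟩ = ω ⟨c, PF3bBasic.le₂ h.cyc hc⟩ := by
      intro x
      rw [cj_apply (mem_norm h (h.W₁_le x.2)), ← hθ₀ c hc]
      congr 1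
      apply Subtype.ext
      show (x : G) * c * (x : G)⁻¹ = c
      rw [comm_W h x.2 hc, mul_inv_cancel_right]
    rw [Finset.prod_congr rfl fun x _ => h1 x, Finset.prod_const, Finset.card_univ,
      ← Nat.card_eq_fintype_card, h.card_W₁]
  have hbez := Nat.gcd_eq_gcd_ab q (Nat.card P)
  rw [Nat.Coprime.gcd_eq_one h.cop.symm] at hbez
  refine ⟨(∏ x : W₁, cj P (x : G) θ₀) ^ (q.gcdA (Nat.card P)), fun t ht => ?_, fun c hc => ?_⟩
  · rw [cj_zpow (mem_norm h (h.W₁_le ht)), hinv₁ t ht]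
  · rw [MonoidHom.zpow_apply, hval c hc]
    have h1 : (ω ⟨c, PF3bBasic.le₂ h.cyc hc⟩) ^ (Nat.card P) = 1 := by
      rw [← map_pow]
      have : (⟨c, PF3bBasic.le₂ h.cyc hc⟩ : W) ^ Nat.card P = 1 :=
        Subtype.ext (pow_card_P (h.W₂_le hc))
      rw [this, map_one]
    have h2 : ((1 : ℕ) : ℤ) - (Nat.card P : ℤ) * q.gcdB (Nat.card P) =
        (q : ℤ) * q.gcdA (Nat.card P) := by rw [hbez]; ring
    rw [← zpow_natCast, ← zpow_mul, ← h2, zpow_sub, zpow_mul, zpow_natCast, zpow_natCast, h1]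
    simp

/-- Existence of `Θ_ω`. -/
theorem exists_Theta [Finite G] (h : BridgeHyp P S W W₁ W₂ p q u) {ω : ↥W →* ℂˣ}
    (hω : ω ∈ lin₂ W W₁) : ∃ Θ : ↥(P ⊔ W₁ : Subgroup G) →* ℂˣ,
      ∀ (m : ↥(P ⊔ W₁ : Subgroup G)) (hm : (m : G) ∈ W), Θ m = ω ⟨m, hm⟩ := by
  classical
  obtain ⟨θ, hθ, hθω⟩ := exists_theta h ω
  let M : Subgroup G := P ⊔ W₁
  have hN : (P.subgroupOf M).Normal := by
    refine ⟨fun n hn g => ?_⟩
    rw [Subgroup.mem_subgroupOf] at hn ⊢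
    exact conj_mem h (M_le h g.2) hn
  have h1 : P.subgroupOf M ⊓ W₁.subgroupOf M = ⊥ := by
    rw [eq_bot_iff]
    rintro x ⟨hx1, hx2⟩
    exact Subtype.ext (eq_one_of_mem h (Subgroup.mem_subgroupOf.mp hx1)
      (Subgroup.mem_subgroupOf.mp hx2))
  have h2 : P.subgroupOf M ⊔ W₁.subgroupOf M = ⊤ := by
    rw [eq_top_iff]
    rintro ⟨x, hx⟩ -
    obtain ⟨a, ha, w, hw, rfl⟩ := (mem_M h).mp hx
    have : (⟨a * w, hx⟩ : M) = ⟨a, Subgroup.mem_sup_left ha⟩ * ⟨w, Subgroup.mem_sup_right hw⟩ :=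
      rfl
    rw [this]
    exact Subgroup.mul_mem _ (Subgroup.mem_sup_left (Subgroup.mem_subgroupOf.mpr ha))
      (Subgroup.mem_sup_right (Subgroup.mem_subgroupOf.mpr hw))
  let f₁ : ↥(P.subgroupOf M) →* ℂˣ := θ.comp
    { toFun := fun x => ⟨((x : M) : G), Subgroup.mem_subgroupOf.mp x.2⟩
      map_one' := rfl
      map_mul' := fun _ _ => rfl }
  obtain ⟨F, hF1, hF2⟩ := SplitExtension.exists_hom_of_complement (P.subgroupOf M)
    (W₁.subgroupOf M) h1 h2 f₁ 1 (by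
      intro w n
      rw [MonoidHom.one_apply, one_mul, inv_one, mul_one]
      have hw : ((w : M) : G) ∈ W₁ := Subgroup.mem_subgroupOf.mp w.2
      have := DFunLike.congr_fun (hθ _ hw) ⟨((n : M) : G), Subgroup.mem_subgroupOf.mp n.2⟩
      rw [cj_apply (mem_norm h (h.W₁_le hw))] at this
      exact this)
  refine ⟨F, fun m hm => ?_⟩
  obtain ⟨a, ha, b, hb, hab⟩ := PF3bBasic.exists_mul h.cyc hm
  have e1 : m = (⟨a, Subgroup.mem_sup_right ha⟩ : M) *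
      ⟨b, Subgroup.mem_sup_left (h.W₂_le hb)⟩ := Subtype.ext hab.symm
  have e2 : (⟨m, hm⟩ : W) = ⟨a, PF3bBasic.le₁ h.cyc ha⟩ * ⟨b, PF3bBasic.le₂ h.cyc hb⟩ :=
    Subtype.ext hab.symm
  rw [e2, map_mul, hω _ ha, one_mul, e1, map_mul]
  have h3 : F ⟨a, Subgroup.mem_sup_right ha⟩ = 1 :=
    hF2 ⟨⟨a, Subgroup.mem_sup_right ha⟩, Subgroup.mem_subgroupOf.mpr ha⟩
  have h4 : F ⟨b, Subgroup.mem_sup_left (h.W₂_le hb)⟩ = θ ⟨b, h.W₂_le hb⟩ :=
    hF1 ⟨⟨b, Subgroup.mem_sup_left (h.W₂_le hb)⟩, Subgroup.mem_subgroupOf.mpr (h.W₂_le hb)⟩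
  rw [h3, h4, one_mul, hθω b hb]

/-- A linear character of `M` trivial on `W` is trivial. -/
theorem eq_one_of_trivial [Finite G] (h : BridgeHyp P S W W₁ W₂ p q u)
    {χ : ↥(P ⊔ W₁ : Subgroup G) →* ℂˣ}
    (hχ : ∀ m : ↥(P ⊔ W₁ : Subgroup G), (m : G) ∈ W → χ m = 1) : χ = 1 := by
  have hP : ∀ m : ↥(P ⊔ W₁ : Subgroup G), (m : G) ∈ P → χ m = 1 := by
    intro m hm
    obtain ⟨w, hw, hw1⟩ := (Subgroup.bot_or_exists_ne_one W₁).resolve_left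
      (PF3bBasic.ne₁ h.cyc)
    obtain ⟨b, hb, hn⟩ := pow_form h hm hw q
    rw [w_pow_q h hw, mul_one] at hn
    -- `b = (m w) ^ q` is centralised by `w`
    have hbw : w * b = b * w := by
      have h1 : (m : G) * w * b = b * (m * w) := by
        rw [← hn, ← pow_succ, ← pow_succ']
      have h2 : (m : G) * b = b * m := h.comm _ hm _ hb
      have h3 : (m : G) * (w * b) = m * (b * w) := by
        rw [← mul_assoc, h1, ← mul_assoc, ← h2, mul_assoc]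
      exact mul_left_cancel h3
    have hbW : b ∈ W := PF3bBasic.le₂ h.cyc (h.cent w hw hw1 b hb hbw)
    let w' : ↥(P ⊔ W₁ : Subgroup G) := ⟨w, Subgroup.mem_sup_right hw⟩
    have h4 : χ (m * w') ^ q = 1 := by
      rw [← map_pow]
      apply hχ
      show ((m : G) * w) ^ q ∈ W
      rw [hn]
      exact hbW
    rw [map_mul, hχ w' (PF3bBasic.le₁ h.cyc hw), mul_one] at h4
    have h5 : χ m ^ Nat.card P = 1 := by
      rw [← map_pow]
      have : m ^ Nat.card P = 1 := Subtype.ext (pow_card_P hm)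
      rw [this, map_one]
    have h6 := orderOf_dvd_of_pow_eq_one h4
    have h7 := orderOf_dvd_of_pow_eq_one h5
    have h8 := Nat.dvd_gcd h7 h6
    rw [Nat.Coprime.gcd_eq_one h.cop, Nat.dvd_one, orderOf_eq_one_iff] at h8
    exact h8
  apply MonoidHom.ext
  rintro ⟨x, hx⟩
  obtain ⟨a, ha, w, hw, rfl⟩ := (mem_M h).mp hx
  have : (⟨a * w, hx⟩ : ↥(P ⊔ W₁ : Subgroup G)) =
    ⟨a, Subgroup.mem_sup_left ha⟩ * ⟨w, Subgroup.mem_sup_right hw⟩ := rfl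
  rw [this, map_mul, hP _ ha, hχ _ (PF3bBasic.le₁ h.cyc hw), one_mul, MonoidHom.one_apply]

open Classical in
/-- The linear character of `M` extending the linear character `ω` of `W`. -/
noncomputable def Theta (M W : Subgroup G) (ω : ↥W →* ℂˣ) : ↥M →* ℂˣ :=
  if hex : ∃ Θ : ↥M →* ℂˣ, ∀ (m : ↥M) (hm : (m : G) ∈ W), Θ m = ω ⟨m, hm⟩ then
    Classical.choose hex else 1

theorem Theta_apply [Finite G] (h : BridgeHyp P S W W₁ W₂ p q u) {ω : ↥W →* ℂˣ}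
    (hω : ω ∈ lin₂ W W₁) (m : ↥(P ⊔ W₁ : Subgroup G)) (hm : (m : G) ∈ W) :
    Theta (P ⊔ W₁) W ω m = ω ⟨m, hm⟩ := by
  have hex := exists_Theta h hω
  unfold Theta
  rw [dif_pos hex]
  exact Classical.choose_spec hex m hm

theorem Theta_unique [Finite G] (h : BridgeHyp P S W W₁ W₂ p q u) {ω : ↥W →* ℂˣ}
    (hω : ω ∈ lin₂ W W₁) {Θ : ↥(P ⊔ W₁ : Subgroup G) →* ℂˣ}
    (hΘ : ∀ (m : ↥(P ⊔ W₁ : Subgroup G)) (hm : (m : G) ∈ W), Θ m = ω ⟨m, hm⟩) :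
    Θ = Theta (P ⊔ W₁) W ω := by
  have h1 : Θ * (Theta (P ⊔ W₁) W ω)⁻¹ = 1 := by
    apply eq_one_of_trivial h
    intro m hm
    rw [MonoidHom.mul_apply, MonoidHom.inv_apply, hΘ m hm, Theta_apply h hω m hm, mul_inv_cancel]
  exact mul_inv_eq_one.mp h1

theorem mapHom_mem [Finite G] (σ : ℂ ≃+* ℂ) {ω : ↥W →* ℂˣ} (hω : ω ∈ lin₂ W W₁) :
    mapHom σ ω ∈ lin₂ W W₁ := by
  intro w hw
  apply Units.ext
  rw [mapHom_apply, hω w hw, Units.val_one, map_one]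

theorem Theta_mapHom [Finite G] (h : BridgeHyp P S W W₁ W₂ p q u) (σ : ℂ ≃+* ℂ) {ω : ↥W →* ℂˣ}
    (hω : ω ∈ lin₂ W W₁) :
    mapHom σ (Theta (P ⊔ W₁) W ω) = Theta (P ⊔ W₁) W (mapHom σ ω) := by
  apply Theta_unique h (mapHom_mem σ hω)
  intro m hm
  apply Units.ext
  rw [mapHom_apply, mapHom_apply, Theta_apply h hω m hm]

/-- The restriction of `Θ_ω` to `P`. -/
noncomputable def theta (P W₁ W : Subgroup G) (ω : ↥W →* ℂˣ) : ↥P →* ℂˣ :=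
  (Theta (P ⊔ W₁) W ω).comp (Subgroup.inclusion le_sup_left)

theorem theta_apply (P W₁ W : Subgroup G) (ω : ↥W →* ℂˣ) (x : ↥P) :
    theta P W₁ W ω x = Theta (P ⊔ W₁) W ω ⟨x, Subgroup.mem_sup_left x.2⟩ := rfl

theorem cj_theta [Finite G] (h : BridgeHyp P S W W₁ W₂ p q u) (ω : ↥W →* ℂˣ) {m : G}
    (hm : m ∈ P ⊔ W₁) : cj P m (theta P W₁ W ω) = theta P W₁ W ω := by
  apply MonoidHom.ext
  intro x
  rw [cj_apply (mem_norm h (M_le h hm)), theta_apply, theta_apply]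
  have : (⟨m * x * m⁻¹, Subgroup.mem_sup_left (conj_mem h (M_le h hm) x.2)⟩ :
      ↥(P ⊔ W₁ : Subgroup G)) = ⟨m, hm⟩ * ⟨x, Subgroup.mem_sup_left x.2⟩ * ⟨m, hm⟩⁻¹ := rfl
  change Theta (P ⊔ W₁) W ω ⟨m * x * m⁻¹, _⟩ = _
  rw [this, map_mul, map_mul, map_inv, mul_inv_cancel_comm]

theorem theta_inj [Finite G] (h : BridgeHyp P S W W₁ W₂ p q u) {ω ω' : ↥W →* ℂˣ}
    (hω : ω ∈ lin₂ W W₁) (hω' : ω' ∈ lin₂ W W₁) (he : theta P W₁ W ω = theta P W₁ W ω') :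
    ω = ω' := by
  have h1 : ω * ω'⁻¹ = 1 := by
    apply PF3bBasic.eq_one_of_mem_lin h.cyc
    · exact PF3bBasic.mul_mem_lin₁ hω (PF3bBasic.inv_mem_lin₁ hω')
    · intro w hw
      have h2 := DFunLike.congr_fun he ⟨(w : G), h.W₂_le hw⟩
      rw [theta_apply, theta_apply, Theta_apply h hω _ w.2, Theta_apply h hω' _ w.2] at h2
      rw [MonoidHom.mul_apply, MonoidHom.inv_apply]
      exact mul_inv_eq_one.mpr h2
  exact mul_inv_eq_one.mp h1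

theorem one_mem_lin₂ : (1 : ↥W →* ℂˣ) ∈ lin₂ W W₁ := fun _ _ => rfl

theorem Theta_one [Finite G] (h : BridgeHyp P S W W₁ W₂ p q u) :
    Theta (P ⊔ W₁) W (1 : ↥W →* ℂˣ) = 1 :=
  (Theta_unique h (one_mem_lin₂ (W₁ := W₁)) (fun _ _ => rfl)).symm

theorem theta_ne_one [Finite G] (h : BridgeHyp P S W W₁ W₂ p q u) {ω : ↥W →* ℂˣ}
    (hω : ω ∈ lin₂ W W₁) (h1 : ω ≠ 1) : theta P W₁ W ω ≠ 1 := by
  intro he
  apply h1
  apply theta_inj h hω one_mem_lin₂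
  rw [he]
  unfold theta
  rw [Theta_one h]
  rfl

theorem Theta_ne_one [Finite G] (h : BridgeHyp P S W W₁ W₂ p q u) {ω : ↥W →* ℂˣ}
    (hω : ω ∈ lin₂ W W₁) (h1 : ω ≠ 1) : Theta (P ⊔ W₁) W ω ≠ 1 := by
  intro he
  apply theta_ne_one h hω h1
  unfold theta
  rw [he]
  rfl

theorem Theta_inj [Finite G] (h : BridgeHyp P S W W₁ W₂ p q u) {ω ω' : ↥W →* ℂˣ}
    (hω : ω ∈ lin₂ W W₁) (hω' : ω' ∈ lin₂ W W₁)
    (he : Theta (P ⊔ W₁) W ω = Theta (P ⊔ W₁) W ω') : ω = ω' := by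
  apply theta_inj h hω hω'
  unfold theta
  rw [he]

/-- `θ_ω` and `θ_ω'` are conjugate in `S` only if they are equal, and then by elements of `M`. -/
theorem cj_theta_eq [Finite G] (h : BridgeHyp P S W W₁ W₂ p q u) {ω ω' : ↥W →* ℂˣ}
    (hω : ω ∈ lin₂ W W₁) (hω' : ω' ∈ lin₂ W W₁) (h1 : ω' ≠ 1) {y : G}
    (hy : y ∈ S) : theta P W₁ W ω = cj P y (theta P W₁ W ω') ↔ y ∈ P ⊔ W₁ ∧ ω = ω' := by
  constructor
  · intro he
    have hyM : y ∈ P ⊔ W₁ := by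
      obtain ⟨x, hx, hx1⟩ := (Subgroup.bot_or_exists_ne_one W₁).resolve_left
        (PF3bBasic.ne₁ h.cyc)
      have hxM : x ∈ P ⊔ W₁ := Subgroup.mem_sup_right hx
      have h2 : cj P (y * x) (theta P W₁ W ω') = cj P y (theta P W₁ W ω') := by
        rw [← cj_mul (mem_norm h hy) (mem_norm h (M_le h hxM)), ← he, cj_theta h ω hxM]
      have h3 : cj P (y * x * y⁻¹) (theta P W₁ W ω') = theta P W₁ W ω' := by
        rw [← cj_mul (mem_norm h (S.mul_mem hy (M_le h hxM))) (mem_norm h (S.inv_mem hy)), h2,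
          cj_mul (mem_norm h hy) (mem_norm h (S.inv_mem hy)), mul_inv_cancel, cj_one]
      have h4 := h.stab _ (theta_ne_one h hω' h1)
        (fun x hx => cj_theta h ω' (Subgroup.mem_sup_right hx)) (y * x * y⁻¹)
        (S.mul_mem (S.mul_mem hy (M_le h hxM)) (S.inv_mem hy)) h3
      exact h.frob y hy x hx hx1 h4
    refine ⟨hyM, ?_⟩
    rw [cj_theta h ω' hyM] at he
    exact theta_inj h hω hω' he
  · rintro ⟨hyM, rfl⟩
    rw [cj_theta h ω hyM]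

end Cfsg.Agent.OddOrderCharacters.PF13.BridgeTheta
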