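import Cfsg.Agent.OddOrderCharacters.PF13.SizesSide
import Cfsg.Agent.OddOrderCharacters.PF9.NineCore
import Cfsg.Agent.OddOrderCharacters.PF9.Eight
import Cfsg.Agent.OddOrderCharacters.PF9.Reducible

/-!
# Peterfalvi (9.10) for one side of the configuration of §13
-/

set_option autoImplicit false

open Cfsg

namespace Cfsg.Agent.OddOrderCharacters.PF13.SizesSideA

open Cfsg.Agent.OddOrderCharacters.PFDefs
open Cfsg.Agent.OddOrderCharacters.PF9.Defs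
open Cfsg.Agent.OddOrderCharacters.PF13Half
open Cfsg.Agent.OddOrderCharacters.PF13Struct
open Cfsg.Agent.OddOrderCharacters.PF13.SizesSide

universe u

section core

variable {L : Type u} [Group L] [Fintype L] {K H U W₁ W₂ H₀ C : Subgroup L} {p q n : ℕ}

/-- Peterfalvi (9.10), weak form. -/
theorem core_cases (s : Setup K H U W₁ W₂ H₀ C p q n) :
    (∃ ζ : L → ℂ, IsIrrCharacter L ζ ∧
        ∃ ξ : ↥(H ⊔ C) →* ℂˣ, ζ = indFun (H ⊔ C) (fun x => (ξ x : ℂ))) ∨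
      (Galois H U H₀ ∧ C = ⊥ ∧ IsCyclic ↥U ∧ Nat.card ↥U = (p ^ q - 1) / (p - 1) ∧
        ∀ x ∈ U, x ≠ 1 → ∀ h ∈ H, x * h * x⁻¹ * h⁻¹ ∈ H₀ → h ∈ H₀) := by
  by_cases hg : Galois H U H₀
  · obtain ⟨h1, -, h3, h4⟩ := PF9.GaloisCase.galois s hg
    rcases PF9.NineCore.reducible_core_cases_galois' s hg h4 h1 h3
      (PF9.Reducible.reducible_members s).1 with ⟨ζ, hζ, -, -, hξ⟩ | h
    · exact Or.inl ⟨ζ, hζ, hξ⟩
    · exact Or.inr h
  · obtain ⟨H₁, U₁, a, ng⟩ := PF9.NonGalois.nonGalois s hg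
    obtain ⟨ζ, hζ, hi⟩ := PF9.Eight.nonGalois_exists_irr ng
    exact Or.inl ⟨ζ, hζ, hi.ind⟩

end core

variable {G : Type u} [Group G] [Finite G] {S U W₁ W₂ : Subgroup G} {p q : ℕ}

/-- There is a linear character of `F(S)` with stabiliser `F(S)` in `S`, or the Galois case holds
with `C = 1` and `|U| = (p^q - 1)/(p - 1)`. -/
theorem exists_free_or (h : Side S U W₁ W₂ p q)
    (h234 : IsOfTypeII S ∨ IsOfTypeIII S ∨ IsOfTypeIV S) :
    (∃ θ : ↥(HH S U) →* ℂˣ, ∀ s ∈ S, cj (HH S U) s θ = θ → s ∈ HH S U) ∨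
      (IsGalois S U ∧ CC S U = ⊥ ∧ IsCyclic ↥U ∧ Nat.card ↥U = (p ^ q - 1) / (p - 1)) := by
  have : Fintype ↥S := Fintype.ofFinite ↥S
  rcases core_cases (setup h h234) with ⟨ζ, hζ, ξ, hξ⟩ | ⟨h1, h2, h3, h4, -⟩
  · exact Or.inl (exists_free h ⟨ζ, hζ, ξ, hξ⟩)
  · refine Or.inr ⟨h1, ?_, ?_, ?_⟩
    · rw [Subgroup.subgroupOf_eq_bot, disjoint_iff,
        inf_eq_left.mpr (h.C_le.trans h.U_le)] at h2
      exact h2
    · exact (Subgroup.subgroupOfEquivOfLe h.U_le).isCyclic.mp h3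
    · rw [← h4]
      exact (Nat.card_congr (Subgroup.subgroupOfEquivOfLe h.U_le).toEquiv).symm

end Cfsg.Agent.OddOrderCharacters.PF13.SizesSideA
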