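import Cfsg.Agent.OddOrderCharacters.PFDefs
import Cfsg.Agent.OddOrderCharacters.PF13.SumBound
import Cfsg.Agent.OddOrderCharacters.CyclicTIChars

/-!
# Peterfalvi (13.9)

`eta_mul`: `η_ij = η_i0 + η_0j - 1` off the conjugates of `V = W \ (W₁ ∪ W₂)`.
`ne_zero_or_ne_zero` (13.9)(a): if all the column sums `∑_i η_ij(x)`, `j ≠ 0`, are equal to `Λ(x)` and
the row sums `∑_j η_ij(x)`, `i ≠ 0`, do not depend on `i`, then `Λ(x) ≠ 0` or `η_i0(x) ≠ 0`.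
`card_le_sum` (13.9)(b).
-/

set_option autoImplicit false

open scoped ComplexConjugate
open Cfsg Cfsg.Agent.Characters.Core
open Cfsg.Agent.OddOrderCharacters.VChar Cfsg.Agent.OddOrderCharacters.PFDefs

namespace Cfsg.Agent.OddOrderCharacters.PF13.Cover

universe u

variable {G : Type u} [Group G] [Fintype G] {W W₁ W₂ : Subgroup G}
  {η : (↥W →* ℂˣ) → (G → ℂ)}

theorem eta_gen (hη : CyclicTIFam W W₁ W₂ η) (ω : ↥W →* ℂˣ) : IsGeneralizedCharacter G (η ω) :=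
  gen_of_irr_or_neg (hη.irr_or_neg ω)

/-- `η_ij = η_i0 + η_0j - 1` off the conjugates of `V`. -/
theorem eta_mul (hη : CyclicTIFam W W₁ W₂ η) {φ ψ : ↥W →* ℂˣ} (hφ : φ ∈ lin₁ W W₂)
    (hψ : ψ ∈ lin₁ W W₁) {g : G} (hg : ∀ x : G, x * g * x⁻¹ ∉ cycTIset W W₁ W₂) :
    η (φ * ψ) g = η φ g + η ψ g - 1 := by
  by_cases h1 : φ = 1
  · have e : φ * ψ = ψ := by rw [h1]; exact one_mul ψ
    rw [e, h1, hη.map_one]; ring
  by_cases h2 : ψ = 1
  · have e : φ * ψ = φ := by rw [h2]; exact mul_one φ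
    rw [e, h2, hη.map_one]; ring
  have h3 := congrFun (hη.induced_eq φ ψ h1 h2 hφ hψ) g
  have h4 : indFun W (fun w => 1 - (φ w : ℂ) - (ψ w : ℂ) + (φ w : ℂ) * (ψ w : ℂ)) g = 0 := by
    rw [indFun_def]
    simp only []
    rw [Finset.sum_eq_zero, mul_zero]
    intro x _
    by_cases hx : x⁻¹ * g * x ∈ W
    · have e : extendByZero W (fun w => 1 - (φ w : ℂ) - (ψ w : ℂ) + (φ w : ℂ) * (ψ w : ℂ))
          (x⁻¹ * g * x) = (1 - (φ ⟨_, hx⟩ : ℂ)) * (1 - (ψ ⟨_, hx⟩ : ℂ)) := by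
        have := Function.Injective.extend_apply (f := (Subtype.val : W → G))
          Subtype.val_injective
          (fun w => 1 - (φ w : ℂ) - (ψ w : ℂ) + (φ w : ℂ) * (ψ w : ℂ)) 0 ⟨_, hx⟩
        rw [extendByZero_def]
        refine this.trans ?_
        ring
      rw [e]
      have h5 := hg x⁻¹
      rw [inv_inv] at h5
      have h6 : x⁻¹ * g * x ∈ W₁ ∨ x⁻¹ * g * x ∈ W₂ := by
        by_contra hcon
        exact h5 ⟨hx, fun h => hcon h⟩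
      rcases h6 with h6 | h6
      · rw [hψ ⟨_, hx⟩ h6]; simp
      · rw [hφ ⟨_, hx⟩ h6]; simp
    · rw [extendByZero_def]
      apply Function.extend_apply'
      rintro ⟨a, ha⟩
      exact hx (ha ▸ a.2)
  rw [h4] at h3
  linear_combination -h3

theorem finite_hom_of (hW : IsCyclic ↥W) : Finite (↥W →* ℂˣ) := by
  apply CyclicTIChars.finite_hom
  intro a b
  let _ := IsCyclic.commGroup (α := ↥W)
  exact mul_comm a b

/-- The column sum off the conjugates of `V`. -/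
theorem colSum_apply (hη : CyclicTIFam W W₁ W₂ η) (hW : IsCyclic ↥W) {ψ : ↥W →* ℂˣ}
    (hψ : ψ ∈ lin₁ W W₁) {g : G} (hg : ∀ x : G, x * g * x⁻¹ ∉ cycTIset W W₁ W₂) :
    colSum W W₂ η ψ g = (∑ᶠ φ ∈ lin₁ W W₂, η φ g) +
      (Nat.card (lin₁ W W₂) : ℂ) * (η ψ g - 1) := by
  classical
  have hfin : Finite (↥W →* ℂˣ) := finite_hom_of hW
  have hf : (lin₁ W W₂).Finite := Set.toFinite _
  have e1 : colSum W W₂ η ψ = ∑ φ ∈ hf.toFinset, η (φ * ψ) := by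
    unfold colSum
    rw [finsum_mem_eq_finite_toFinset_sum _ hf]
  have e2 : (∑ᶠ φ ∈ lin₁ W W₂, η φ g) = ∑ φ ∈ hf.toFinset, η φ g := by
    rw [finsum_mem_eq_finite_toFinset_sum _ hf]
  have e3 : Nat.card (lin₁ W W₂) = hf.toFinset.card := by
    rw [Nat.card_coe_set_eq, Set.ncard_eq_toFinset_card _ hf]
  rw [e1, e2, e3, Finset.sum_apply]
  have e4 : ∀ φ ∈ hf.toFinset, η (φ * ψ) g = η φ g + (η ψ g - 1) := by
    intro φ hφ
    rw [eta_mul hη ((hf.mem_toFinset).1 hφ) hψ hg]; ring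
  rw [Finset.sum_congr rfl e4, Finset.sum_add_distrib, Finset.sum_const, nsmul_eq_mul]

/-- `1 + (n - 1) a + n (b - 1) ≠ 0` if `a = 0`, `b` is an algebraic integer, `n ≥ 2`. -/
theorem natCast_mul_sub_ne {n : ℕ} (hn : 1 < n) {b : ℂ} (hb : IsIntegral ℤ b) :
    (1 : ℂ) + n * (b - 1) ≠ 0 := by
  intro h
  have hn0 : (n : ℂ) ≠ 0 := by
    have : n ≠ 0 := by omega
    exact_mod_cast this
  have h1 : b = (((n : ℚ) - 1) / n : ℚ) := by
    push_cast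
    field_simp
    linear_combination h
  obtain ⟨k, hk⟩ := Characters.GaloisBasic.exists_int_of_isIntegral hb ⟨_, h1⟩
  rw [hk] at h
  have h2 : (1 : ℤ) + n * (k - 1) = 0 := by exact_mod_cast h
  have h3 : (n : ℤ) ∣ 1 := ⟨1 - k, by linear_combination h2⟩
  have h4 : (n : ℤ) = 1 := Int.eq_one_of_dvd_one (by positivity) h3
  omega

/-- **Peterfalvi (13.9)(a).**  `x` is any element such that the column sums `∑_i η_ij(x)`, `j ≠ 0`,
all have the value `l` and the row sums `∑_j η_ij(x)`, `i ≠ 0`, do not depend on `i`. -/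
theorem ne_zero_or_ne_zero (hη : CyclicTIFam W W₁ W₂ η) (hW : IsCyclic ↥W)
    (h₁ : 1 < Nat.card (lin₁ W W₂)) {x : G} {l : ℂ}
    {ψ : ↥W →* ℂˣ} (hψ : ψ ∈ lin₁ W W₁) (hcol : colSum W W₂ η ψ x = l)
    (hrow : ∀ φ ∈ lin₁ W W₂, ∀ φ' ∈ lin₁ W W₂, φ ≠ 1 → φ' ≠ 1 →
      colSum W W₁ η φ x = colSum W W₁ η φ' x)
    (h₂ : 0 < Nat.card (lin₁ W W₁))
    {φ : ↥W →* ℂˣ} (hφ : φ ∈ lin₁ W W₂) (hφ1 : φ ≠ 1) : l ≠ 0 ∨ η φ x ≠ 0 := by
  classical
  by_cases hV : ∀ y : G, y * x * y⁻¹ ∉ cycTIset W W₁ W₂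
  swap
  · push Not at hV
    obtain ⟨y, hyW, hy⟩ := hV
    right
    have hcf := gen_isClassFunction (eta_gen hη φ) x y
    have h1 : y * x * y⁻¹ ∉ W₁ := fun h => hy (Or.inl h)
    have h2 : y * x * y⁻¹ ∉ W₂ := fun h => hy (Or.inr h)
    rw [← hcf, hη.eq_on φ ⟨_, hyW⟩ h1 h2]
    exact Units.ne_zero _
  by_contra hcon
  push Not at hcon
  obtain ⟨hl, h0⟩ := hcon
  have hsymm := hη.symm
  have hV' : ∀ y : G, y * x * y⁻¹ ∉ cycTIset W W₂ W₁ := by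
    intro y hy
    exact hV y ⟨hy.1, fun h => hy.2 (Or.symm h)⟩
  have hc : (Nat.card (lin₁ W W₁) : ℂ) ≠ 0 := by exact_mod_cast h₂.ne'
  -- all the `η_i0 x`, `i ≠ 0`, vanish
  have hz : ∀ φ' ∈ lin₁ W W₂, φ' ≠ 1 → η φ' x = 0 := by
    intro φ' hφ' hφ'1
    have h1 := hrow φ hφ φ' hφ' hφ1 hφ'1
    rw [colSum_apply hsymm hW hφ hV', colSum_apply hsymm hW hφ' hV', h0] at h1
    have h2 : (Nat.card (lin₁ W W₁) : ℂ) * η φ' x = 0 := by linear_combination -h1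
    rcases mul_eq_zero.1 h2 with h3 | h3
    · exact absurd h3 hc
    · exact h3
  have hfin : Finite (↥W →* ℂˣ) := finite_hom_of hW
  have hf : (lin₁ W W₂).Finite := Set.toFinite _
  have h1mem : (1 : ↥W →* ℂˣ) ∈ hf.toFinset := hf.mem_toFinset.2 (fun _ _ => rfl)
  have hsum : (∑ᶠ φ ∈ lin₁ W W₂, η φ x) = 1 := by
    rw [finsum_mem_eq_finite_toFinset_sum _ hf, Finset.sum_eq_single_of_mem 1 h1mem]
    · rw [hη.map_one]
    · intro φ' hφ' hne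
      exact hz φ' (hf.mem_toFinset.1 hφ') hne
  rw [colSum_apply hη hW hψ hV, hsum, hl] at hcol
  exact natCast_mul_sub_ne h₁ (SumBound.gen_isIntegral (eta_gen hη ψ) x) hcol

end Cfsg.Agent.OddOrderCharacters.PF13.Cover
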