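import Mathlib.Analysis.SpecialFunctions.Pow.Real
import Mathlib.Data.Nat.Prime.Basic
import Mathlib.Tactic

/-!
# The numerical contradiction of Peterfalvi (13.12)
-/

set_option autoImplicit false

namespace Cfsg.Agent.OddOrderCharacters.PF13.Num12

/-- Convexity bound: for `a ≤ v ≤ V`, `1/v ≤ (a + V - v)/(aV)`. -/
theorem inv_le_chord {a v V : ℝ} (ha : 0 < a) (hav : a ≤ v) (hvV : v ≤ V) :
    1 / v ≤ (a + V - v) / (a * V) := by
  have hv : 0 < v := lt_of_lt_of_le ha hav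
  have hV : 0 < V := lt_of_lt_of_le hv hvV
  rw [div_le_div_iff₀ hv (mul_pos ha hV)]
  nlinarith [mul_nonneg (sub_nonneg.2 hav) (sub_nonneg.2 hvV)]

/-- The chord bound for the function `1/v + (v - 1/v)/N`. -/
theorem chord {a v Q N d : ℝ} (ha : 0 < a) (hQ : 0 < Q) (hN : 1 < N) (hd : 1 ≤ d) (h1 : 1 ≤ v)
    (hav : a ≤ v) (hv : v * Q ≤ N - 1) :
    1 / v + (v - 1 / v) / (N * d) ≤ (v + Q * (a + (N - 1) / Q - v) / a) / N := by
  have hv0 : 0 < v := by linarith
  have hN0 : 0 < N := by linarith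
  have hvi : 1 / v ≤ v := by
    rw [div_le_iff₀ hv0]; nlinarith
  have h2 : (v - 1 / v) / (N * d) ≤ (v - 1 / v) / N := by
    apply div_le_div_of_nonneg_left (by linarith) hN0
    nlinarith
  have hvV : v ≤ (N - 1) / Q := by
    rw [le_div_iff₀ hQ]; exact hv
  have h3 := inv_le_chord ha hav hvV
  have hN1 : 0 < N - 1 := by linarith
  have h4 : 1 / v + (v - 1 / v) / N = v / N + (1 / v) * ((N - 1) / N) := by
    field_simp
    ring
  have h5 : (1 / v) * ((N - 1) / N) ≤ (a + (N - 1) / Q - v) / (a * ((N - 1) / Q)) * ((N - 1) / N) :=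
    mul_le_mul_of_nonneg_right h3 (div_nonneg hN1.le hN0.le)
  have h6 : (a + (N - 1) / Q - v) / (a * ((N - 1) / Q)) * ((N - 1) / N) =
      Q * (a + (N - 1) / Q - v) / a / N := by
    field_simp
  rw [h6] at h5
  calc 1 / v + (v - 1 / v) / (N * d) ≤ 1 / v + (v - 1 / v) / N := by linarith
    _ = v / N + (1 / v) * ((N - 1) / N) := h4
    _ ≤ v / N + Q * (a + (N - 1) / Q - v) / a / N := by linarith
    _ = (v + Q * (a + (N - 1) / Q - v) / a) / N := by ring

/-- The simple bound for the function `1/v + (v - 1/v)/N`. -/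
theorem simple {a v Q N d : ℝ} (ha : 0 < a) (hQ : 0 < Q) (hN : 1 < N) (hd : 1 ≤ d) (h1 : 1 ≤ v)
    (hav : a ≤ v) (hv : v * Q ≤ N - 1) :
    1 / v + (v - 1 / v) / (N * d) ≤ 1 / a + 1 / Q := by
  have hv0 : 0 < v := by linarith
  have hN0 : 0 < N := by linarith
  have hvi : 1 / v ≤ v := by
    rw [div_le_iff₀ hv0]; nlinarith
  have hvi0 : 0 < 1 / v := by positivity
  have h2 : (v - 1 / v) / (N * d) ≤ (v - 1 / v) / N := by
    apply div_le_div_of_nonneg_left (by linarith) hN0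
    nlinarith
  have h3 : (v - 1 / v) / N ≤ 1 / Q := by
    rw [div_le_div_iff₀ hN0 hQ]
    nlinarith
  have h4 : 1 / v ≤ 1 / a := one_div_le_one_div_of_le ha hav
  linarith

theorem three_pow_bound {p : ℕ} (hp : 7 ≤ p) : 21 * p ^ 2 + 1 ≤ 3 ^ p := by
  induction p, hp using Nat.le_induction with
  | base => norm_num
  | succ n hn ih =>
    have h1 : 3 ^ (n + 1) = 3 * 3 ^ n := by ring
    rw [h1]
    have h2 : 21 * (n + 1) ^ 2 + 1 ≤ 3 * (21 * n ^ 2 + 1) := by nlinarith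
    exact h2.trans (Nat.mul_le_mul_left 3 ih)

/-- The case `q ≥ 5`. -/
theorem case_five {p q v : ℕ} {X Y : ℝ} (hp : p.Prime) (hq : q.Prime) (hp3 : 3 ≤ p) (hq5 : 5 ≤ q)
    (hv' : (v : ℝ) * (q - 1) ≤ (q : ℝ) ^ p - 1)
    (hA : 1 - X < Y) (hsimple : X ≤ 1 / (2 * (p : ℝ) + 1) + 1 / ((q : ℝ) - 1))
    (hchord : X ≤ (v + ((q : ℝ) - 1) * (2 * p + 1 + ((q : ℝ) ^ p - 1) / ((q : ℝ) - 1) - v) /
      (2 * p + 1)) / (q : ℝ) ^ p)
    (hL : Y < (p * q) / (((p : ℝ) - 1) * (2 * q + 1))) : False := by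
  have hq5R : (5 : ℝ) ≤ q := by exact_mod_cast hq5
  by_cases hp5 : 5 ≤ p
  · have hp5R : (5 : ℝ) ≤ p := by exact_mod_cast hp5
    have h1 : (p * q) / (((p : ℝ) - 1) * (2 * q + 1)) ≤ 5 / 8 := by
      rw [div_le_div_iff₀ (mul_pos (by linarith) (by linarith)) (by norm_num)]
      nlinarith
    have h2 : 1 / (2 * (p : ℝ) + 1) ≤ 1 / 11 :=
      one_div_le_one_div_of_le (by norm_num) (by linarith)
    have h3 : 1 / ((q : ℝ) - 1) ≤ 1 / 4 :=
      one_div_le_one_div_of_le (by norm_num) (by linarith)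
    linarith
  · have hp3' : p = 3 := by
      have : p ≠ 4 := by
        rintro rfl
        revert hp; norm_num
      omega
    subst hp3'
    push_cast at hsimple hchord hL hv'
    by_cases hq11 : 11 ≤ q
    · have hq11R : (11 : ℝ) ≤ q := by exact_mod_cast hq11
      have h1 : (3 * (q : ℝ)) / ((3 - 1) * (2 * q + 1)) ≤ 3 / 4 := by
        rw [div_le_div_iff₀ (by nlinarith) (by norm_num)]
        nlinarith
      have h3 : 1 / ((q : ℝ) - 1) ≤ 1 / 10 :=
        one_div_le_one_div_of_le (by norm_num) (by linarith)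
      linarith
    · have hq57 : q = 5 ∨ q = 7 := by
        have : q ≠ 6 := by rintro rfl; revert hq; norm_num
        have : q ≠ 8 := by rintro rfl; revert hq; norm_num
        have : q ≠ 9 := by rintro rfl; revert hq; norm_num
        have : q ≠ 10 := by rintro rfl; revert hq; norm_num
        omega
      rcases hq57 with rfl | rfl
      · norm_num at hchord hL hv'
        linarith
      · norm_num at hchord hL hv'
        linarith

/-- The case `q = 3`. -/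
theorem case_three {p u c v : ℕ} {X : ℝ} (hp : p.Prime) (hp3 : 3 ≤ p) (hpq : p ≠ 3)
    (hc : 7 ≤ c) (hc1 : c % 6 = 1) (hu1 : u % 6 = 1)
    (huR : (u : ℝ) * (p - 1) ≤ (p : ℝ) ^ 3 - 1)
    (hv' : (v : ℝ) * 2 ≤ (3 : ℝ) ^ p - 1)
    (hA : 1 - X < (p * 3 * u) / ((p : ℝ) ^ 3 * c))
    (hchord : X ≤ (v + 2 * (2 * p + 1 + ((3 : ℝ) ^ p - 1) / 2 - v) /
      (2 * p + 1)) / (3 : ℝ) ^ p) : p = 5 ∧ c = 7 ∧ u = 31 := by
  have hpR : (3 : ℝ) ≤ p := by exact_mod_cast hp3
  have hcR : (7 : ℝ) ≤ c := by exact_mod_cast hc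
  have hp0 : (0 : ℝ) < p := by linarith
  have hc0 : (0 : ℝ) < c := by linarith
  have hb : X ≤ 1 / 2 + 3 / (2 * (3 : ℝ) ^ p) := by
    refine hchord.trans ?_
    have ha : (0 : ℝ) < 2 * (p : ℝ) + 1 := by linarith
    have hN3 : (0 : ℝ) < (3 : ℝ) ^ p := by positivity
    rw [div_le_iff₀ hN3]
    have e1 : (1 / 2 + 3 / (2 * (3 : ℝ) ^ p)) * 3 ^ p = (3 ^ p + 3) / 2 := by
      field_simp
    rw [e1]
    have e2 : (v : ℝ) + 2 * (2 * (p : ℝ) + 1 + (3 ^ p - 1) / 2 - v) / (2 * p + 1) =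
      (3 ^ p + 3) / 2 - ((3 ^ p - 1) / 2 - v) * ((2 * p + 1 - 2) / (2 * p + 1)) := by
      field_simp
      ring
    rw [e2]
    have h7 : 0 ≤ (((3 : ℝ) ^ p - 1) / 2 - v) * ((2 * p + 1 - 2) / (2 * p + 1)) := by
      apply mul_nonneg
      · linarith
      · apply div_nonneg <;> linarith
    linarith
  have h3 : (u : ℝ) ≤ p ^ 2 + p + 1 := by
    have h4 : (u : ℝ) * (p - 1) ≤ (p ^ 2 + p + 1) * (p - 1) := by
      calc (u : ℝ) * (p - 1) ≤ (p : ℝ) ^ 3 - 1 := huR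
        _ = (p ^ 2 + p + 1) * (p - 1) := by ring
    exact le_of_mul_le_mul_right h4 (by linarith)
  by_cases hp7 : 7 ≤ p
  · exfalso
    have hp7R : (7 : ℝ) ≤ p := by exact_mod_cast hp7
    have h1 : (21 * (p : ℝ) ^ 2 + 1) ≤ (3 : ℝ) ^ p := by exact_mod_cast three_pow_bound hp7
    have h2 : ((p : ℝ) * 3 * u) / ((p : ℝ) ^ 3 * c) ≤
        3 * (p ^ 2 + p + 1) / (7 * p ^ 2) := by
      rw [div_le_div_iff₀ (by positivity) (by positivity)]
      have e3 : (u : ℝ) * 7 ≤ (p ^ 2 + p + 1) * c := mul_le_mul h3 hcR (by norm_num) (by positivity)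
      calc (p : ℝ) * 3 * u * (7 * (p : ℝ) ^ 2) = 3 * (p : ℝ) ^ 3 * ((u : ℝ) * 7) := by ring
        _ ≤ 3 * (p : ℝ) ^ 3 * (((p : ℝ) ^ 2 + p + 1) * c) :=
          mul_le_mul_of_nonneg_left e3 (by positivity)
        _ = 3 * ((p : ℝ) ^ 2 + p + 1) * ((p : ℝ) ^ 3 * c) := by ring
    have h5 : 3 * ((p : ℝ) ^ 2 + p + 1) / (7 * p ^ 2) ≤ 1 / 2 - 3 / (2 * (3 : ℝ) ^ p) := by
      have hN3 : (0 : ℝ) < (3 : ℝ) ^ p := by positivity
      have h6 : 3 / (2 * (3 : ℝ) ^ p) ≤ 3 / (2 * (21 * (p : ℝ) ^ 2)) := by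
        apply div_le_div_of_nonneg_left (by norm_num) (by positivity)
        linarith
      have h7 : 3 * ((p : ℝ) ^ 2 + p + 1) / (7 * p ^ 2) + 3 / (2 * (21 * (p : ℝ) ^ 2)) ≤ 1 / 2 := by
        have e4 : 3 * ((p : ℝ) ^ 2 + p + 1) / (7 * p ^ 2) + 3 / (2 * (21 * (p : ℝ) ^ 2)) =
          (6 * ((p : ℝ) ^ 2 + p + 1) + 1) / (14 * p ^ 2) := by
          field_simp
          ring
        rw [e4, div_le_div_iff₀ (by positivity) (by norm_num)]
        nlinarith
      linarith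
    linarith
  · have hp5 : p = 5 := by
      have : p ≠ 4 := by rintro rfl; revert hp; norm_num
      have : p ≠ 6 := by rintro rfl; revert hp; norm_num
      omega
    subst hp5
    push_cast at h3 hA
    have hu31 : u ≤ 31 := by
      have : (u : ℝ) ≤ 31 := by linarith
      exact_mod_cast this
    have hu31' : (u : ℝ) ≤ 31 := by exact_mod_cast hu31
    have hkey : (12 : ℝ) * c < 3 * u := by
      have h8 : 1 - (1 / 2 + 3 / (2 * (3 : ℝ) ^ 5)) < (5 * 3 * (u : ℝ)) / (5 ^ 3 * c) := by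
        linarith
      rw [lt_div_iff₀ (by positivity)] at h8
      nlinarith
    have hc7 : c < 13 := by
      by_contra hcon
      push Not at hcon
      have h9 : (13 : ℝ) ≤ c := by exact_mod_cast hcon
      linarith
    have hc7' : c = 7 := by omega
    subst hc7'
    have hu28 : 27 < u := by
      by_contra hcon
      push Not at hcon
      have h10 : (u : ℝ) ≤ 27 := by exact_mod_cast hcon
      push_cast at hkey
      linarith
    exact ⟨rfl, rfl, by omega⟩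

/-- Peterfalvi (13.12), the final numerical analysis. -/
theorem num12 {p q u c v d : ℕ} (hp : p.Prime) (hq : q.Prime) (hp2 : p ≠ 2) (hq2 : q ≠ 2)
    (hpq : p ≠ q) (hd : 1 ≤ d) (hc : 2 * q + 1 ≤ c) (hc1 : c % (2 * q) = 1)
    (hu : u * (p - 1) ≤ p ^ q - 1) (hu1 : u % (2 * q) = 1)
    (hv : 2 * p + 1 ≤ v) (hv' : v * (q - 1) ≤ q ^ p - 1)
    (h : (1 : ℝ) / p - 1 / (v * p) - (v - 1 / v) / (q ^ p * d * p) <
      u * q / (p ^ q * c)) : q = 3 ∧ p = 5 ∧ c = 7 ∧ u = 31 := by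
  have hp3 : 3 ≤ p := by
    have := hp.two_le
    omega
  have hq3 : 3 ≤ q := by
    have := hq.two_le
    omega
  -- real versions
  have hpR : (3 : ℝ) ≤ p := by exact_mod_cast hp3
  have hqR : (3 : ℝ) ≤ q := by exact_mod_cast hq3
  have hdR : (1 : ℝ) ≤ d := by exact_mod_cast hd
  have hcR : 2 * (q : ℝ) + 1 ≤ c := by exact_mod_cast hc
  have hvR : 2 * (p : ℝ) + 1 ≤ v := by exact_mod_cast hv
  have hM1 : 1 ≤ p ^ q := Nat.one_le_pow _ _ (by omega)
  have hN1 : 1 ≤ q ^ p := Nat.one_le_pow _ _ (by omega)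
  have huR : (u : ℝ) * (p - 1) ≤ (p : ℝ) ^ q - 1 := by
    have h1 : ((u * (p - 1) : ℕ) : ℝ) ≤ ((p ^ q - 1 : ℕ) : ℝ) := by exact_mod_cast hu
    rw [Nat.cast_mul, Nat.cast_sub (by omega), Nat.cast_sub hM1] at h1
    push_cast at h1
    exact h1
  have hvR' : (v : ℝ) * (q - 1) ≤ (q : ℝ) ^ p - 1 := by
    have h1 : ((v * (q - 1) : ℕ) : ℝ) ≤ ((q ^ p - 1 : ℕ) : ℝ) := by exact_mod_cast hv'
    rw [Nat.cast_mul, Nat.cast_sub (by omega), Nat.cast_sub hN1] at h1
    push_cast at h1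
    exact h1
  have hp0 : (0 : ℝ) < p := by linarith
  have hq0 : (0 : ℝ) < q := by linarith
  have hv0 : (0 : ℝ) < v := by linarith
  have hc0 : (0 : ℝ) < c := by linarith
  have hd0 : (0 : ℝ) < d := by linarith
  have hM0 : (0 : ℝ) < (p : ℝ) ^ q := by positivity
  have hN0 : (0 : ℝ) < (q : ℝ) ^ p := by positivity
  have hN1' : (1 : ℝ) < (q : ℝ) ^ p := one_lt_pow₀ (by linarith) (by omega)
  have hu0 : (0 : ℝ) ≤ u := Nat.cast_nonneg _
  -- multiply by p
  have hA : 1 - (1 / (v : ℝ) + ((v : ℝ) - 1 / v) / ((q : ℝ) ^ p * d)) <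
      (p * q * u) / ((p : ℝ) ^ q * c) := by
    have h1 := mul_lt_mul_of_pos_right h hp0
    have e1 : ((1 : ℝ) / p - 1 / (v * p) - (v - 1 / v) / (q ^ p * d * p)) * p =
        1 - (1 / (v : ℝ) + ((v : ℝ) - 1 / v) / ((q : ℝ) ^ p * d)) := by
      field_simp
      ring
    have e2 : (u : ℝ) * q / (p ^ q * c) * p = (p * q * u) / ((p : ℝ) ^ q * c) := by
      ring
    rw [e1, e2] at h1
    exact h1
  have hsimple := simple (a := 2 * (p : ℝ) + 1) (v := v) (Q := (q : ℝ) - 1) (N := (q : ℝ) ^ p)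
    (d := d) (by linarith) (by linarith) hN1' hdR (by linarith) hvR hvR'
  have hchord := chord (a := 2 * (p : ℝ) + 1) (v := v) (Q := (q : ℝ) - 1) (N := (q : ℝ) ^ p)
    (d := d) (by linarith) (by linarith) hN1' hdR (by linarith) hvR hvR'
  -- upper bound for the right side
  have hL : (p * q * u) / ((p : ℝ) ^ q * c) < (p * q) / (((p : ℝ) - 1) * (2 * q + 1)) := by
    rw [div_lt_div_iff₀ (by positivity) (mul_pos (by linarith) (by linarith))]
    have h1 : (u : ℝ) * (p - 1) * (2 * q + 1) < (p : ℝ) ^ q * c := by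
      have : (u : ℝ) * (p - 1) * (2 * q + 1) ≤ ((p : ℝ) ^ q - 1) * (2 * q + 1) :=
        mul_le_mul_of_nonneg_right huR (by linarith)
      nlinarith
    have h2 : (0 : ℝ) < p * q := by positivity
    calc (p : ℝ) * q * u * ((p - 1) * (2 * q + 1)) = (p * q) * (u * (p - 1) * (2 * q + 1)) := by
          ring
      _ < (p * q) * ((p : ℝ) ^ q * c) := mul_lt_mul_of_pos_left h1 h2
      _ = p * q * ((p : ℝ) ^ q * c) := by ring
  -- case q ≥ 5
  by_cases hq5 : 5 ≤ q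
  · exact (case_five hp hq hp3 hq5 hvR' hA hsimple hchord hL).elim
  · have hq3' : q = 3 := by
      have : q ≠ 4 := by
        rintro rfl
        revert hq; norm_num
      omega
    subst hq3'
    push_cast at hA hchord huR hvR'
    have e2 : (3 : ℝ) - 1 = 2 := by norm_num
    rw [e2] at hchord hvR'
    exact ⟨rfl, case_three hp hp3 hpq (by omega) (by simpa using hc1) (by simpa using hu1) huR
      hvR' hA hchord⟩

end Cfsg.Agent.OddOrderCharacters.PF13.Num12
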