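import Mathlib
import Cfsg.Agent.S1546

/-!
# Peterfalvi (13.10), (13.13), (13.15): the arithmetic

`bd x N` is `1/x + x/N - 1/(N x)`, the contribution of the other maximal subgroup to the main inequality.
-/

set_option autoImplicit false
namespace Cfsg.Agent.OddOrderCharacters.PF13.NumGalois

/-- the value at the top end -/
theorem top_end {N q : ℝ} (hN : 1 < N) (hq : 1 < q) :
    (1 - 1 / N) / ((N - 1) / (q - 1)) + (N - 1) / (q - 1) / N =
      1 / (q - 1) + (q - 1) / N - 1 / ((q - 1) * N) := by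
  have h1 : q - 1 ≠ 0 := by linarith
  have h2 : N - 1 ≠ 0 := by linarith
  have h3 : N ≠ 0 := by linarith
  field_simp
  ring

/-- `a / v + v / N` is bounded by its value at `v1` if `a N ≤ v v1`. -/
theorem le_top {a N v v1 : ℝ} (hN : 0 < N) (h0 : 0 < v) (h11 : v ≤ v1) (h : a * N ≤ v * v1) :
    a / v + v / N ≤ a / v1 + v1 / N := by
  have hv1 : 0 < v1 := lt_of_lt_of_le h0 h11
  have : a / v1 + v1 / N - (a / v + v / N) = (v1 - v) * (v * v1 - a * N) / (N * v * v1) := by
    field_simp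
    ring
  have h2 : 0 ≤ (v1 - v) * (v * v1 - a * N) / (N * v * v1) := by
    apply div_nonneg (mul_nonneg (by linarith) (by linarith))
    positivity
  linarith

theorem le_bot {a N v v0 v1 : ℝ} (hN : 0 < N) (h0 : 0 < v0) (h01 : v0 ≤ v) (h11 : v ≤ v1)
    (h : v * v1 ≤ a * N) : a / v + v / N ≤ a / v0 + v0 / N := by
  have hv : 0 < v := lt_of_lt_of_le h0 h01
  have h3 : v * v0 ≤ a * N := le_trans (mul_le_mul_of_nonneg_left (h01.trans h11) hv.le) h
  have : a / v0 + v0 / N - (a / v + v / N) = (v - v0) * (a * N - v * v0) / (N * v * v0) := by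
    field_simp
    ring
  have h2 : 0 ≤ (v - v0) * (a * N - v * v0) / (N * v * v0) := by
    apply div_nonneg (mul_nonneg (by linarith) (by linarith))
    positivity
  linarith

/-- The bound for the whole range `2 p + 1 ≤ v ≤ (q ^ p - 1) / (q - 1)`. -/
theorem either {p q v : ℕ} (hq : 3 ≤ q) (hp : 3 ≤ p) (hv : v * (q - 1) ≤ q ^ p - 1)
    (hv2 : 2 * p + 1 ≤ v) :
    (v + 1 < q ∧ (1 - 1 / (q : ℝ) ^ p) / v + v / (q : ℝ) ^ p ≤
      1 / (2 * p + 1) + (2 * p + 1) / q ^ p) ∨
    (1 - 1 / (q : ℝ) ^ p) / v + v / (q : ℝ) ^ p ≤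
      1 / (q - 1) + (q - 1) / q ^ p - 1 / ((q - 1) * q ^ p) := by
  have hNpos : (0 : ℝ) < (q : ℝ) ^ p := by positivity
  set N : ℝ := (q : ℝ) ^ p with hNdef
  have hN1 : (1 : ℝ) < N := by
    rw [hNdef]
    exact one_lt_pow₀ (by exact_mod_cast (by omega : 1 < q)) (by omega)
  have hvR : (2 * (p : ℝ) + 1) ≤ v := by exact_mod_cast hv2
  have hpR : (3 : ℝ) ≤ p := by exact_mod_cast hp
  have hqR : (3 : ℝ) ≤ q := by exact_mod_cast hq
  have hv0 : (0 : ℝ) < v := by linarith
  have hvq : (v : ℝ) * (q - 1) ≤ N - 1 := by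
    have h1 : v * (q - 1) + 1 ≤ q ^ p := by
      have : 1 ≤ q ^ p := Nat.one_le_pow _ _ (by omega)
      omega
    have h2 : ((v * (q - 1) + 1 : ℕ) : ℝ) ≤ ((q ^ p : ℕ) : ℝ) := by exact_mod_cast h1
    push_cast [Nat.cast_sub (by omega : 1 ≤ q)] at h2
    rw [hNdef]
    linarith
  have hq1 : (0 : ℝ) < q - 1 := by linarith
  have hv11 : (v : ℝ) ≤ (N - 1) / (q - 1) := by
    rw [le_div_iff₀ hq1]
    exact hvq
  have haN : (1 - 1 / N) * N = N - 1 := by
    field_simp
  rcases Nat.lt_or_ge (v + 1) q with h | h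
  · left
    refine ⟨h, ?_⟩
    have hvlt : (v : ℝ) ≤ q - 1 := by
      have : ((v + 1 : ℕ) : ℝ) < (q : ℝ) := by exact_mod_cast h
      push_cast at this
      linarith
    refine (le_bot hNpos (v0 := 2 * (p : ℝ) + 1) (by linarith) hvR hv11 ?_).trans ?_
    · rw [haN]
      calc (v : ℝ) * ((N - 1) / (q - 1)) ≤ (q - 1) * ((N - 1) / (q - 1)) := by
            apply mul_le_mul_of_nonneg_right hvlt
            apply div_nonneg (by linarith) hq1.le
        _ = N - 1 := by field_simp
    · have h3 : (1 - 1 / N) / (2 * (p : ℝ) + 1) ≤ 1 / (2 * p + 1) := by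
        apply div_le_div_of_nonneg_right _ (by linarith)
        have : 0 < 1 / N := by positivity
        linarith
      linarith
  · right
    have hvlt : (q : ℝ) - 1 ≤ v := by
      have : (q : ℝ) ≤ ((v + 1 : ℕ) : ℝ) := by exact_mod_cast h
      push_cast at this
      linarith
    refine (le_top hNpos hv0 hv11 ?_).trans (le_of_eq ?_)
    · rw [haN]
      calc N - 1 = (q - 1) * ((N - 1) / (q - 1)) := by field_simp
        _ ≤ v * ((N - 1) / (q - 1)) := by
            apply mul_le_mul_of_nonneg_right hvlt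
            apply div_nonneg (by linarith) hq1.le
    · exact top_end hN1 (by linarith)

theorem small_frac {n b : ℕ} (hb : 3 ≤ b) (hn : 3 ≤ n) : (2 * (n : ℝ) + 1) / (b : ℝ) ^ n ≤ 7 / 27 := by
  have key : ∀ n : ℕ, 3 ≤ n → (2 * (n : ℝ) + 1) * 27 ≤ 7 * 3 ^ n := by
    intro n hn
    induction n, hn using Nat.le_induction with
    | base => norm_num
    | succ n hn ih =>
      have hn' : (3 : ℝ) ≤ n := by exact_mod_cast hn
      rw [pow_succ]
      push_cast
      linarith
  have hbR : (3 : ℝ) ≤ b := by exact_mod_cast hb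
  have h3 : (3 : ℝ) ^ n ≤ b ^ n := pow_le_pow_left₀ (by norm_num) hbR n
  have h4 := key n hn
  rw [div_le_div_iff₀ (by positivity) (by norm_num)]
  linarith

theorem small_frac9 {n b : ℕ} (hb : 3 ≤ b) (hn : 9 ≤ n) :
    (2 * (n : ℝ) + 1) / (b : ℝ) ^ n ≤ 1 / 1000 := by
  have key : ∀ n : ℕ, 9 ≤ n → (2 * (n : ℝ) + 1) * 1000 ≤ 3 ^ n := by
    intro n hn
    induction n, hn using Nat.le_induction with
    | base => norm_num
    | succ n hn ih =>
      have hn' : (9 : ℝ) ≤ n := by exact_mod_cast hn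
      rw [pow_succ]
      push_cast
      linarith
  have hbR : (3 : ℝ) ≤ b := by exact_mod_cast hb
  have h3 : (3 : ℝ) ^ n ≤ b ^ n := pow_le_pow_left₀ (by norm_num) hbR n
  have h4 := key n hn
  rw [div_le_div_iff₀ (by positivity) (by norm_num)]
  linarith

/-- main inequality, multiplied by `p` (with `c = d = 1`) -/
theorem scaled {p q u v : ℕ} (hp : 3 ≤ p) (hq : 3 ≤ q) (hv0 : 0 < v)
    (hS : (1 : ℝ) / p < u * q / p ^ q + 1 / (v * p) - 1 / (q ^ p * v * p) + v / (q ^ p * p)) :
    (1 : ℝ) < u * q * p / p ^ q + ((1 - 1 / (q : ℝ) ^ p) / v + v / (q : ℝ) ^ p) := by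
  have hp0 : (0 : ℝ) < p := by exact_mod_cast (by omega : 0 < p)
  have hq0 : (0 : ℝ) < q := by exact_mod_cast (by omega : 0 < q)
  have hv0 : (0 : ℝ) < v := by exact_mod_cast hv0
  have h1 := mul_lt_mul_of_pos_left hS hp0
  have h2 : (p : ℝ) * (1 / p) = 1 := by field_simp
  rw [h2] at h1
  refine h1.trans_le (le_of_eq ?_)
  field_simp
  ring

/-- The other subgroup is big: `q - 1 ≤ v`. -/
theorem big_v {p q u v : ℕ} (hp3 : 3 ≤ p) (hq3 : 3 ≤ q)
    (hu : u * (p - 1) ≤ p ^ q - 1) (hu2 : 2 * q + 1 ≤ u) (hv2 : 2 * p + 1 ≤ v)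
    (hT : v * (q - 1) = q ^ p - 1 ∨ (1 : ℝ) / q < v * p / q ^ p + 1 / (u * q) -
      1 / (p ^ q * u * q) + u / (p ^ q * q)) : ¬ v + 1 < q := by
  intro hvq
  have hpR : (3 : ℝ) ≤ p := by exact_mod_cast hp3
  have hq9 : 9 ≤ q := by omega
  have hq9R : (9 : ℝ) ≤ q := by exact_mod_cast hq9
  rcases hT with hT | hT
  · -- `v = (q ^ p - 1) / (q - 1) ≥ q + 1`
    have h1 : q ^ 3 ≤ q ^ p := Nat.pow_le_pow_right (by omega) hp3
    have h2 : v * (q - 1) ≤ q * (q - 1) := Nat.mul_le_mul_right _ (by omega)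
    have h3 : q * (q - 1) + q = q ^ 2 := by
      obtain ⟨k, rfl⟩ : ∃ k, q = k + 1 := ⟨q - 1, by omega⟩
      simp only [Nat.add_sub_cancel]
      ring
    have h4 : q ^ 2 * 9 ≤ q ^ 3 := by
      rw [pow_succ q 2]
      exact Nat.mul_le_mul_left _ hq9
    have h5 : 1 ≤ q ^ 2 := Nat.one_le_pow _ _ (by omega)
    omega
  · have hT' := scaled (p := q) (q := p) (u := v) (v := u) hq3 hp3 (by omega) hT
    have hN0 : (0 : ℝ) < (q : ℝ) ^ p := by positivity
    have hq0 : (0 : ℝ) < q := by linarith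
    have hp0 : (0 : ℝ) < p := by linarith
    -- first term at most p / q
    have hB : (v : ℝ) * p * q / q ^ p ≤ p / q := by
      have h1 : (v : ℝ) ≤ q := by
        have : v ≤ q := by omega
        exact_mod_cast this
      rw [div_le_div_iff₀ hN0 hq0]
      have h2 : (q : ℝ) ^ 3 ≤ q ^ p := pow_le_pow_right₀ (by linarith) hp3
      calc (v : ℝ) * p * q * q = v * (p * q ^ 2) := by ring
        _ ≤ q * (p * q ^ 2) := by
            apply mul_le_mul_of_nonneg_right h1
            positivity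
        _ = p * q ^ 3 := by ring
        _ ≤ p * q ^ p := by
            apply mul_le_mul_of_nonneg_left h2 hp0.le
    have hpq : (p : ℝ) / q ≤ p / (2 * p + 3) := by
      apply div_le_div_of_nonneg_left hp0.le (by positivity)
      have : 2 * p + 3 ≤ q := by omega
      exact_mod_cast this
    have hpq2 : (p : ℝ) / (2 * p + 3) < 1 / 2 := by
      rw [div_lt_div_iff₀ (by positivity) (by norm_num)]
      linarith
    have hs := small_frac9 hp3 hq9
    rcases either (p := q) (q := p) (v := u) hp3 hq3 hu hu2 with ⟨-, h⟩ | h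
    · have h1 : (1 : ℝ) / (2 * q + 1) ≤ 1 / 19 := by
        apply div_le_div_of_nonneg_left (by norm_num) (by norm_num) (by linarith)
      linarith
    · have h1 : (0 : ℝ) < 1 / ((p - 1) * p ^ q) := by
        apply one_div_pos.mpr
        apply mul_pos (by linarith)
        positivity
      have h2 : ((p : ℝ) - 1) / p ^ q ≤ (2 * (q : ℝ) + 1) / p ^ q := by
        apply div_le_div_of_nonneg_right _ (by positivity)
        have : (2 * (p : ℝ) + 3) ≤ q := by exact_mod_cast (by omega : 2 * p + 3 ≤ q)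
        linarith
      rcases Nat.lt_or_ge p 4 with hp4 | hp4
      · have hp3' : (p : ℝ) = 3 := by exact_mod_cast (by omega : p = 3)
        have e1 : (1 : ℝ) / (p - 1) = 1 / 2 := by rw [hp3']; norm_num
        have e2 : (p : ℝ) / (2 * p + 3) = 1 / 3 := by rw [hp3']; norm_num
        rw [e1] at h
        rw [e2] at hpq
        linarith
      · have hp4R : (4 : ℝ) ≤ p := by exact_mod_cast hp4
        have h3 : (1 : ℝ) / (p - 1) ≤ 1 / 3 := by
          apply div_le_div_of_nonneg_left (by norm_num) (by norm_num) (by linarith)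
        linarith

/-- **(13.10)**, in the form of a lower bound for `u`. -/
theorem lower_bound {p q u v : ℕ} (hp3 : 3 ≤ p) (hq3 : 3 ≤ q)
    (hu : u * (p - 1) ≤ p ^ q - 1) (hu2 : 2 * q + 1 ≤ u)
    (hv : v * (q - 1) ≤ q ^ p - 1) (hv2 : 2 * p + 1 ≤ v)
    (hS : (1 : ℝ) / p < u * q / p ^ q + 1 / (v * p) - 1 / (q ^ p * v * p) + v / (q ^ p * p))
    (hT : v * (q - 1) = q ^ p - 1 ∨ (1 : ℝ) / q < v * p / q ^ p + 1 / (u * q) -
      1 / (p ^ q * u * q) + u / (p ^ q * q)) :
    (1 - 1 / ((q : ℝ) - 1) - (q - 1) / q ^ p + 1 / ((q - 1) * q ^ p)) < u * q * p / p ^ q := by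
  have h1 := scaled hp3 hq3 (by omega) hS
  rcases either hq3 hp3 hv hv2 with ⟨h, -⟩ | h
  · exact absurd h (big_v hp3 hq3 hu hu2 hv2 hT)
  · linarith

/-! ### (13.13) -/

/-- `m ≥ 7/10` for `q ≥ 5`, `p ≥ 3`. -/
theorem m_five {p q : ℕ} (hp3 : 3 ≤ p) (hq5 : 5 ≤ q) :
    (7 : ℝ) / 10 < 1 - 1 / ((q : ℝ) - 1) - (q - 1) / q ^ p + 1 / ((q - 1) * q ^ p) := by
  have hq5R : (5 : ℝ) ≤ q := by exact_mod_cast hq5
  have hq0 : (0 : ℝ) < q := by linarith
  have hN0 : (0 : ℝ) < (q : ℝ) ^ p := by positivity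
  have h1 : (1 : ℝ) / (q - 1) ≤ 1 / 4 := by
    apply div_le_div_of_nonneg_left (by norm_num) (by norm_num) (by linarith)
  have h2 : ((q : ℝ) - 1) / q ^ p ≤ 1 / 25 := by
    have h3 : (q : ℝ) ^ 3 ≤ q ^ p := pow_le_pow_right₀ (by linarith) hp3
    rw [div_le_div_iff₀ hN0 (by norm_num)]
    have h4 : (25 : ℝ) ≤ q ^ 2 := by nlinarith
    have h5 : (q : ℝ) ^ 3 = q ^ 2 * q := by ring
    nlinarith
  have h3 : (0 : ℝ) < 1 / ((q - 1) * q ^ p) := one_div_pos.mpr (mul_pos (by linarith) hN0)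
  linarith

/-- `m ≥ 4/5` for `q ≥ 7`, `p ≥ 3`. -/
theorem m_seven {p q : ℕ} (hp3 : 3 ≤ p) (hq7 : 7 ≤ q) :
    (4 : ℝ) / 5 < 1 - 1 / ((q : ℝ) - 1) - (q - 1) / q ^ p + 1 / ((q - 1) * q ^ p) := by
  have hq7R : (7 : ℝ) ≤ q := by exact_mod_cast hq7
  have hq0 : (0 : ℝ) < q := by linarith
  have hN0 : (0 : ℝ) < (q : ℝ) ^ p := by positivity
  have h1 : (1 : ℝ) / (q - 1) ≤ 1 / 6 := by
    apply div_le_div_of_nonneg_left (by norm_num) (by norm_num) (by linarith)
  have h2 : ((q : ℝ) - 1) / q ^ p ≤ 1 / 49 := by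
    have h3 : (q : ℝ) ^ 3 ≤ q ^ p := pow_le_pow_right₀ (by linarith) hp3
    rw [div_le_div_iff₀ hN0 (by norm_num)]
    have h4 : (49 : ℝ) ≤ q ^ 2 := by nlinarith
    have h5 : (q : ℝ) ^ 3 = q ^ 2 * q := by ring
    nlinarith
  have h3 : (0 : ℝ) < 1 / ((q - 1) * q ^ p) := one_div_pos.mpr (mul_pos (by linarith) hN0)
  linarith

/-- `m > 49/100` for `q = 3`, `p ≥ 5`. -/
theorem m_three {p : ℕ} (hp5 : 5 ≤ p) :
    (49 : ℝ) / 100 < 1 - 1 / (((3 : ℕ) : ℝ) - 1) - ((3 : ℕ) - 1) / ((3 : ℕ) : ℝ) ^ p +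
      1 / (((3 : ℕ) - 1) * ((3 : ℕ) : ℝ) ^ p) := by
  have h3 : (243 : ℝ) ≤ 3 ^ p := by
    calc (243 : ℝ) = 3 ^ 5 := by norm_num
      _ ≤ 3 ^ p := pow_le_pow_right₀ (by norm_num) hp5
  have h1 : 1 - 1 / (((3 : ℕ) : ℝ) - 1) - ((3 : ℕ) - 1) / ((3 : ℕ) : ℝ) ^ p +
      1 / (((3 : ℕ) - 1) * ((3 : ℕ) : ℝ) ^ p) = 1 / 2 - 3 / 2 * (1 / 3 ^ p) := by
    push_cast
    field_simp
    ring
  have h2 : (1 : ℝ) / 3 ^ p ≤ 1 / 243 := by
    apply div_le_div_of_nonneg_left (by norm_num) (by norm_num) h3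
  rw [h1]
  linarith

/-- `m > 499/1000` for `q = 3`, `p ≥ 7`. -/
theorem m_three' {p : ℕ} (hp7 : 7 ≤ p) :
    (499 : ℝ) / 1000 < 1 - 1 / (((3 : ℕ) : ℝ) - 1) - ((3 : ℕ) - 1) / ((3 : ℕ) : ℝ) ^ p +
      1 / (((3 : ℕ) - 1) * ((3 : ℕ) : ℝ) ^ p) := by
  have h3 : (2187 : ℝ) ≤ 3 ^ p := by
    calc (2187 : ℝ) = 3 ^ 7 := by norm_num
      _ ≤ 3 ^ p := pow_le_pow_right₀ (by norm_num) hp7
  have h1 : 1 - 1 / (((3 : ℕ) : ℝ) - 1) - ((3 : ℕ) - 1) / ((3 : ℕ) : ℝ) ^ p +
      1 / (((3 : ℕ) - 1) * ((3 : ℕ) : ℝ) ^ p) = 1 / 2 - 3 / 2 * (1 / 3 ^ p) := by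
    push_cast
    field_simp
    ring
  have h2 : (1 : ℝ) / 3 ^ p ≤ 1 / 2187 := by
    apply div_le_div_of_nonneg_left (by norm_num) (by norm_num) h3
  rw [h1]
  linarith

/-- **(13.13)**, arithmetic. -/
theorem nonGalois_num {p q u a : ℕ} (hp : p.Prime) (hq : q.Prime) (hp2 : p ≠ 2) (hq2 : q ≠ 2)
    (hpq : p ≠ q) (ha : a ∣ p - 1) (haodd : Odd a) (hua : u ∣ a ^ (q - 1))
    (hlow : (1 - 1 / ((q : ℝ) - 1) - (q - 1) / q ^ p + 1 / ((q - 1) * q ^ p)) <
      u * q * p / p ^ q) : q = 3 ∧ a = (p - 1) / 2 ∧ u = ((p - 1) / 2) ^ 2 := by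
  have hp3 : 3 ≤ p := by
    have := hp.two_le
    omega
  have hq3 : 3 ≤ q := by
    have := hq.two_le
    omega
  have hpodd : Odd p := hp.odd_of_ne_two hp2
  have hpR : (3 : ℝ) ≤ p := by exact_mod_cast hp3
  have hqR : (3 : ℝ) ≤ q := by exact_mod_cast hq3
  have hp0 : (0 : ℝ) < p := by linarith
  -- `2 a ∣ p - 1`
  obtain ⟨r, hr⟩ := ha
  have ha0 : 0 < a := haodd.pos
  have hr2 : r % 2 = 0 := by
    rcases Nat.even_or_odd r with h | h
    · exact Nat.even_iff.mp h
    · exfalso
      have h1 := haodd.mul h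
      rw [← hr] at h1
      obtain ⟨k, hk⟩ := hpodd
      obtain ⟨l, hl⟩ := h1
      omega
  obtain ⟨s, hs⟩ : ∃ s, r = 2 * s := ⟨r / 2, by omega⟩
  have hps : p - 1 = 2 * (a * s) := by rw [hr, hs]; ring
  have hs0 : 0 < s := by
    rcases Nat.eq_zero_or_pos s with h | h
    · rw [h] at hps
      omega
    · exact h
  have hu_le : u ≤ a ^ (q - 1) := Nat.le_of_dvd (pow_pos ha0 _) hua
  have h2a : 2 * a ≤ p - 1 := by
    rw [hps]
    nlinarith
  have h2aR : 2 * (a : ℝ) ≤ p := by
    have : 2 * a ≤ p := by omega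
    exact_mod_cast this
  have huR : (u : ℝ) ≤ (a : ℝ) ^ (q - 1) := by exact_mod_cast hu_le
  have ha0R : (0 : ℝ) < a := by exact_mod_cast ha0
  have hpow : (p : ℝ) ^ q = p ^ (q - 1) * p := by
    rw [← pow_succ]
    congr 1
    omega
  -- `q = 3`
  have hq3' : q = 3 := by
    by_contra hne
    have hq5 : 5 ≤ q := by
      rcases Nat.lt_or_ge q 5 with h | h
      · interval_cases q
        · exact absurd rfl hne
        · exact absurd hq (by norm_num)
      · exact h
    have h1 := m_five hp3 hq5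
    -- u q p / p ^ q ≤ q / 2 ^ (q - 1)
    have h2 : (u : ℝ) * q * p / p ^ q ≤ q / 2 ^ (q - 1) := by
      rw [hpow, div_le_div_iff₀ (by positivity) (by positivity)]
      have h3 : (u : ℝ) * 2 ^ (q - 1) ≤ p ^ (q - 1) := by
        calc (u : ℝ) * 2 ^ (q - 1) ≤ (a : ℝ) ^ (q - 1) * 2 ^ (q - 1) := by
              apply mul_le_mul_of_nonneg_right huR (by positivity)
          _ = (2 * a) ^ (q - 1) := by rw [mul_comm, mul_pow]
          _ ≤ p ^ (q - 1) := pow_le_pow_left₀ (by positivity) h2aR _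
      calc (u : ℝ) * q * p * 2 ^ (q - 1) = (u * 2 ^ (q - 1)) * (q * p) := by ring
        _ ≤ p ^ (q - 1) * (q * p) := by
            apply mul_le_mul_of_nonneg_right h3 (by positivity)
        _ = q * (p ^ (q - 1) * p) := by ring
    have key : ∀ n : ℕ, 4 ≤ n → ((n : ℝ) + 1) * 16 ≤ 5 * 2 ^ n := by
      intro n hn
      induction n, hn using Nat.le_induction with
      | base => norm_num
      | succ n hn ih =>
        have hn' : (4 : ℝ) ≤ n := by exact_mod_cast hn
        rw [pow_succ]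
        push_cast
        linarith
    have h4 := key (q - 1) (by omega)
    have h5 : (q : ℝ) / 2 ^ (q - 1) ≤ 5 / 16 := by
      rw [div_le_div_iff₀ (by positivity) (by norm_num)]
      have : (((q - 1 : ℕ) : ℝ) + 1) = q := by
        rw [Nat.cast_sub (by omega)]
        push_cast
        ring
      rw [this] at h4
      exact h4
    linarith
  subst hq3'
  refine ⟨rfl, ?_⟩
  have hp5 : 5 ≤ p := by
    rcases Nat.lt_or_ge p 5 with h | h
    · interval_cases p
      · exact absurd rfl hpq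
      · exact absurd hp (by norm_num)
    · exact h
  have h1 := m_three hp5
  have h2 : (49 : ℝ) / 100 < u * 3 / p ^ 2 := by
    refine (h1.trans hlow).trans_le (le_of_eq ?_)
    push_cast
    field_simp
  have h3 : (49 : ℝ) * p ^ 2 < 300 * u := by
    rw [div_lt_div_iff₀ (by norm_num) (by positivity)] at h2
    linarith
  have h4 : 49 * p ^ 2 < 300 * u := by exact_mod_cast h3
  have h5 : u ≤ a ^ 2 := by simpa using hu_le
  have hp1 : p = 2 * (a * s) + 1 := by omega
  have hs1 : s = 1 := by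
    by_contra hne
    have hs2 : 2 ≤ s := by omega
    have h6 : 4 * a ≤ p := by nlinarith
    nlinarith
  rw [hs1, mul_one] at hps
  have ha' : a = (p - 1) / 2 := by omega
  refine ⟨ha', ?_⟩
  rw [← ha']
  obtain ⟨t, ht⟩ := hua
  simp only [Nat.add_one_sub_one] at ht
  have ht' : a ^ 2 = u * t := ht
  have ht1 : t = 1 := by
    by_contra hne
    have htodd : Odd t := by
      have : Odd (a ^ 2) := haodd.pow
      rw [ht'] at this
      exact (Nat.odd_mul.mp this).2
    obtain ⟨k, hk⟩ := htodd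
    have ht3 : 3 ≤ t := by omega
    have h6 : u * 3 ≤ a ^ 2 := by
      rw [ht']
      exact Nat.mul_le_mul_left _ ht3
    have h7 : 2 * a ≤ p := by omega
    nlinarith
  rw [ht', ht1, mul_one]

/-! ### (13.15) -/

/-- **(13.15)**, arithmetic. -/
theorem galois_num {p q u : ℕ} (hp : p.Prime) (hq : q.Prime) (hp2 : p ≠ 2) (hq2 : q ≠ 2)
    (hpq : p ≠ q) (hu : u ∣ (p ^ q - 1) / (p - 1)) (huq : u.Coprime q)
    (hlow : (1 - 1 / ((q : ℝ) - 1) - (q - 1) / q ^ p + 1 / ((q - 1) * q ^ p)) <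
      u * q * p / p ^ q) :
    (p % q ≠ 1 → u = (p ^ q - 1) / (p - 1)) ∧ (p % q = 1 → u * q = (p ^ q - 1) / (p - 1)) := by
  obtain ⟨hodd, h1, h2⟩ := Cfsg.Agent.S1546.result p q hp hq hp2 hq2
  have hp3 : 3 ≤ p := by
    have := hp.two_le
    omega
  have hq3 : 3 ≤ q := by
    have := hq.two_le
    omega
  have hpR : (3 : ℝ) ≤ p := by exact_mod_cast hp3
  have hqR : (3 : ℝ) ≤ q := by exact_mod_cast hq3
  have hp0 : (0 : ℝ) < p := by linarith
  have hq0 : (0 : ℝ) < q := by linarith
  set w := (p ^ q - 1) / (p - 1) with hw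
  have hwmul : w * (p - 1) = p ^ q - 1 := by
    rw [hw]
    apply Nat.div_mul_cancel
    have := Nat.sub_dvd_pow_sub_pow p 1 q
    rwa [one_pow] at this
  have hwR : (w : ℝ) * (p - 1) < p ^ q := by
    have h1 : w * (p - 1) + 1 = p ^ q := by
      have : 1 ≤ p ^ q := Nat.one_le_pow _ _ (by omega)
      omega
    have h2 : ((w * (p - 1) + 1 : ℕ) : ℝ) = ((p ^ q : ℕ) : ℝ) := by rw [h1]
    push_cast [Nat.cast_sub (by omega : 1 ≤ p)] at h2
    linarith
  have hpq0 : (0 : ℝ) < (p : ℝ) ^ q := by positivity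
  -- general bound: `w m (p - 1) < u q p`
  have hgen : ∀ m : ℝ, 0 < m → m < 1 - 1 / ((q : ℝ) - 1) - (q - 1) / q ^ p + 1 / ((q - 1) * q ^ p) →
      m * (w * (p - 1)) < u * q * p := by
    intro m hm0 hm
    have h3 := hm.trans hlow
    rw [lt_div_iff₀ hpq0] at h3
    calc m * (w * (p - 1)) < m * p ^ q := by
          apply mul_lt_mul_of_pos_left hwR hm0
      _ < u * q * p := h3
  have hu0 : 0 < u := by
    rcases Nat.eq_zero_or_pos u with h | h
    · rw [h] at hu
      rw [Nat.eq_zero_of_zero_dvd hu] at hodd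
      exact absurd hodd (by decide)
    · exact h
  have hu0R : (0 : ℝ) < u := by exact_mod_cast hu0
  constructor
  · intro hmod
    obtain ⟨hcop, hdiv⟩ := h2 hmod
    obtain ⟨k, hk⟩ := hu
    have hkq : k % q = 1 := hdiv k ⟨u, by rw [hk, mul_comm]⟩
    have hkodd : Odd k := by
      rw [hk] at hodd
      exact (Nat.odd_mul.mp hodd).2
    have hwk : (w : ℝ) = u * k := by exact_mod_cast hk
    -- `m k (p - 1) < q p`
    have hgen2 : ∀ m : ℝ, 0 < m →
        m < 1 - 1 / ((q : ℝ) - 1) - (q - 1) / q ^ p + 1 / ((q - 1) * q ^ p) →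
        m * k * (p - 1) < q * p := by
      intro m hm0 hm
      have h3 := hgen m hm0 hm
      rw [hwk] at h3
      have h4 : u * (m * k * (p - 1)) < u * (q * p) := by
        calc u * (m * k * ((p : ℝ) - 1)) = m * (u * k * (p - 1)) := by ring
          _ < u * q * p := h3
          _ = u * (q * p) := by ring
      exact lt_of_mul_lt_mul_left h4 hu0R.le
    have hk1 : k = 1 := by
      by_contra hne
      have hk2 : 2 * q + 1 ≤ k := by
        obtain ⟨j, hj⟩ := hkodd
        have hqodd := hq.odd_of_ne_two hq2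
        obtain ⟨i, hi⟩ := hqodd
        obtain ⟨t, h5⟩ : ∃ t, k = q * t + 1 := ⟨k / q, by
          have := Nat.div_add_mod k q
          omega⟩
        have h6 : t ≠ 0 := by
          rintro rfl
          omega
        have h7 : t ≠ 1 := by
          rintro rfl
          omega
        have h8 : 2 ≤ t := by omega
        have h9 : q * 2 ≤ q * t := Nat.mul_le_mul_left _ h8
        omega
      have hk2R : 2 * (q : ℝ) + 1 ≤ k := by exact_mod_cast hk2
      rcases Nat.lt_or_ge q 5 with hq5 | hq5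
      · -- q = 3
        have hq3' : q = 3 := by
          interval_cases q
          · rfl
          · exact absurd hq (by norm_num)
        subst hq3'
        have hp5 : 5 ≤ p := by
          rcases Nat.lt_or_ge p 5 with h | h
          · interval_cases p
            · exact absurd rfl hpq
            · exact absurd hp (by norm_num)
          · exact h
        rcases Nat.lt_or_ge p 11 with hp11 | hp11
        · -- p = 5, `w = 31`
          have hp5' : p = 5 := by
            interval_cases p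
            · rfl
            · exact absurd hp (by norm_num)
            · exact absurd rfl hmod
            · exact absurd hp (by norm_num)
            · exact absurd hp (by norm_num)
            · exact absurd hp (by norm_num)
          subst hp5'
          have hw31 : w = 31 := by rw [hw]; norm_num
          have h31 : Nat.Prime 31 := by norm_num
          have hk31 : k = 31 := by
            have : k ∣ 31 := ⟨u, by rw [← hw31, hk, mul_comm]⟩
            exact ((Nat.dvd_prime h31).mp this).resolve_left hne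
          have := hgen2 (49 / 100) (by norm_num) (m_three hp5)
          rw [hk31] at this
          norm_num at this
        · have := hgen2 (499 / 1000) (by norm_num) (m_three' (by omega))
          have hp11R : (11 : ℝ) ≤ p := by exact_mod_cast hp11
          have hk7 : (7 : ℝ) ≤ k := by
            push_cast at hk2R
            linarith
          have h8 : (499 : ℝ) / 1000 * 7 * (p - 1) ≤ 499 / 1000 * k * (p - 1) := by
            apply mul_le_mul_of_nonneg_right _ (by linarith)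
            linarith
          push_cast at this
          linarith
      · have hq5R : (5 : ℝ) ≤ q := by exact_mod_cast hq5
        have h23 : 2 * (p : ℝ) ≤ 3 * (p - 1) := by linarith
        rcases Nat.lt_or_ge q 7 with hq7 | hq7
        · have hqe : q = 5 := by
            interval_cases q
            · rfl
            · exact absurd hq (by norm_num)
          have hqeR : (q : ℝ) = 5 := by exact_mod_cast hqe
          have := hgen2 (7 / 10) (by norm_num) (m_five hp3 hq5)
          rw [hqeR] at this hk2R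
          have h8 : (7 : ℝ) / 10 * 11 * (p - 1) ≤ 7 / 10 * k * (p - 1) := by
            apply mul_le_mul_of_nonneg_right _ (by linarith)
            linarith
          linarith
        · have hq7R : (7 : ℝ) ≤ q := by exact_mod_cast hq7
          have := hgen2 (4 / 5) (by norm_num) (m_seven hp3 hq7)
          have h8 : (4 : ℝ) / 5 * (2 * q) * (p - 1) ≤ 4 / 5 * k * (p - 1) := by
            apply mul_le_mul_of_nonneg_right _ (by linarith)
            linarith
          have h9 : (q : ℝ) * p ≤ q * (3 / 2 * (p - 1)) := by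
            apply mul_le_mul_of_nonneg_left _ hq0.le
            linarith
          have h10 : 0 < (q : ℝ) * (p - 1) := mul_pos hq0 (by linarith)
          linarith
    rw [hk, hk1, mul_one]
  · intro hmod
    obtain ⟨x, hx⟩ := h1 hmod
    have hux : u ∣ x := by
      rw [hx] at hu
      exact huq.dvd_of_dvd_mul_left hu
    obtain ⟨k, hk⟩ := hux
    have hkodd : Odd k := by
      rw [hx, hk] at hodd
      exact (Nat.odd_mul.mp (Nat.odd_mul.mp hodd).2).2
    have hwk : (w : ℝ) = q * (u * k) := by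
      rw [hx, hk]
      push_cast
      ring
    have hgen2 : ∀ m : ℝ, 0 < m →
        m < 1 - 1 / ((q : ℝ) - 1) - (q - 1) / q ^ p + 1 / ((q - 1) * q ^ p) →
        m * k * (p - 1) < p := by
      intro m hm0 hm
      have h3 := hgen m hm0 hm
      rw [hwk] at h3
      have h4 : (u * q) * (m * k * (p - 1)) < (u * q) * p := by
        calc (u * q) * (m * k * ((p : ℝ) - 1)) = m * (q * (u * k) * (p - 1)) := by ring
          _ < u * q * p := h3
      exact lt_of_mul_lt_mul_left h4 (by positivity)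
    have hpq7 : 2 * q + 1 ≤ p := by
      obtain ⟨j, hj⟩ := hp.odd_of_ne_two hp2
      obtain ⟨i, hi⟩ := hq.odd_of_ne_two hq2
      obtain ⟨t, h5⟩ : ∃ t, p = q * t + 1 := ⟨p / q, by
        have := Nat.div_add_mod p q
        omega⟩
      have h6 : t ≠ 0 := by
        rintro rfl
        omega
      have h7 : t ≠ 1 := by
        rintro rfl
        omega
      have h8 : 2 ≤ t := by omega
      have h9 : q * 2 ≤ q * t := Nat.mul_le_mul_left _ h8
      omega
    have hk1 : k = 1 := by
      by_contra hne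
      obtain ⟨j, hj⟩ := hkodd
      have hk3 : (3 : ℝ) ≤ k := by exact_mod_cast (by omega : 3 ≤ k)
      have hp7R : (7 : ℝ) ≤ p := by exact_mod_cast (by omega : 7 ≤ p)
      rcases Nat.lt_or_ge q 5 with hq5 | hq5
      · have hq3' : q = 3 := by
          interval_cases q
          · rfl
          · exact absurd hq (by norm_num)
        subst hq3'
        have := hgen2 (49 / 100) (by norm_num) (m_three (by omega))
        have h8 : (49 : ℝ) / 100 * 3 * (p - 1) ≤ 49 / 100 * k * (p - 1) := by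
          apply mul_le_mul_of_nonneg_right _ (by linarith)
          linarith
        linarith
      · have := hgen2 (7 / 10) (by norm_num) (m_five hp3 hq5)
        have h8 : (7 : ℝ) / 10 * 3 * (p - 1) ≤ 7 / 10 * k * (p - 1) := by
          apply mul_le_mul_of_nonneg_right _ (by linarith)
          linarith
        linarith
    rw [hx, hk, hk1, mul_one, mul_comm]

end Cfsg.Agent.OddOrderCharacters.PF13.NumGalois
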